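import Mathlib
import Cfsg.Agent.H402.CS.PslRow

/-!
# The simple section, generic form (helper402, S3677)

`S` has the prime `s` with its lattice of centralizer orders (`Lat S p s m`), a second prime `r` such that the elements
`x ≠ 1` commuting with elements of order `r` have large classes, and a centralizer which is a `p`-group.
-/

set_option autoImplicit false

namespace Cfsg.Agent.H402.CS.Generic

open Subgroup Cfsg Cfsg.Agent.H902 Cfsg.Agent.H431.CS Cfsg.Agent.H402.CS.One Cfsg.Agent.H370.AAM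
open Cfsg.Agent.H402.CS.PslRow
open Cfsg.Agent.H969.CS (CO Cz mem_Cz mem_CO)

universe u v

/-- the data about the simple section -/
structure Sect (G : Type u) [Group G] [Finite G] (p s : ℕ) (K : Subgroup G) [K.Normal] (N : Subgroup (G ⧸ K)) :
    Prop where
  normal : N.Normal
  simple : IsSimpleGroup ↥N
  nab : ¬ ∀ a b : ↥N, a * b = b * a
  pK : ¬ p ∣ Nat.card ↥K
  sK : ¬ s ∣ Nat.card ↥K
  pN : p ∣ Nat.card ↥N
  sN : s ∣ Nat.card ↥N
  out : N.index ∣ Nat.card (Cfsg.Out ↥N)
  card_eq : Nat.card ↥K * (N.index * Nat.card ↥N) = Nat.card G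

variable {G : Type u} [Group G] [Finite G] {S : Type v} [Group S] [Finite S] {p s r m a b N : ℕ}

/-- **`O_p(G) = 1`**, with the size of the centralizers commuting with `r`-elements. -/
theorem pCore_eq_bot (hG : Same G S) (h : Perf G s p m) (hZ : center G = ⊥) (hr : r.Prime)
    (hrS : r ∣ Nat.card S) (ha : ∀ j, r ∣ p ^ j - 1 → a ∣ j) (hb : ∀ j, s ∣ p ^ j - 1 → b ∣ j)
    (hN : (Nat.card S).factorization p = N) (hlcm : N < Nat.lcm a b)
    (hsize : ∀ x : S, x ≠ 1 → r ∣ Nat.card ↥(centralizer ({x} : Set S)) →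
      Nat.card ↥(centralizer ({x} : Set S)) * p ^ (Nat.card ↥(centralizer ({x} : Set S))).factorization p < Nat.card S) :
    pCore p G = ⊥ := by
  have hsize' : ∀ c ∈ CO G, c ≠ Nat.card G → r ∣ c → c * p ^ c.factorization p < Nat.card G := by
    rw [hG.card]
    have := co_bound hG (P := fun c => r ∣ c → c * p ^ c.factorization p < Nat.card S) (fun x hx hrx => hsize x hx hrx)
    rwa [hG.card] at this
  exact pCore_eq_bot_of_fpf h.hp h.hs hr h.sG (by rw [hG.card]; exact hrS)
      (fun V hVn hV hVc y hy x hx hxy => fpf_of_nonAdj h.hs h.hp h.hsp h.na V hV hy hx hxy)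
      (fun V hVn hV hVc y hy x hx hxy => fpf_of_size h.hp hZ hsize' V hVn hV hVc hy hx hxy) ha hb
      (by rw [hG.card, hN]; exact hlcm)

/-- the cores from the least class size -/
theorem pCore_eq_bot_of_class {t : ℕ} (hG : Same G S) (hZ : center G = ⊥) (ht : t.Prime)
    (hidx : ∀ x : S, x ≠ 1 → t ^ (Nat.card S).factorization t * Nat.card ↥(centralizer ({x} : Set S)) ≤ Nat.card S) :
    pCore t G = ⊥ := by
  apply pCore_eq_bot_of_index ht hZ
  rw [hG.card]
  have := co_bound hG (P := fun c => t ^ (Nat.card S).factorization t * c ≤ Nat.card S) hidx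
  rwa [hG.card] at this

/-- the cores from the least index -/
theorem pCore_eq_bot_of_minIndex {t : ℕ} (hG : Same G S) (hZ : center G = ⊥) (ht : t.Prime)
    (hcen : center S = ⊥) (hidx : ∀ H : Subgroup S, H ≠ ⊤ → t ^ (Nat.card S).factorization t ≤ H.index) :
    pCore t G = ⊥ := by
  refine pCore_eq_bot_of_class hG hZ ht fun x hx => ?_
  have h1 : centralizer ({x} : Set S) ≠ ⊤ := by
    intro h
    apply hx
    rw [← Subgroup.mem_bot, ← hcen, Subgroup.mem_center_iff]
    intro g
    exact mem_centralizer_singleton_iff.1 (h ▸ Subgroup.mem_top g)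
  have h2 := hidx _ h1
  calc t ^ (Nat.card S).factorization t * Nat.card ↥(centralizer ({x} : Set S)) ≤
        (centralizer ({x} : Set S)).index * Nat.card ↥(centralizer ({x} : Set S)) := Nat.mul_le_mul_right _ h2
    _ = Nat.card S := by rw [mul_comm, Subgroup.card_mul_index]

/-- the cores from the action of `s`-elements -/
theorem pCore_eq_bot_of_order {t b : ℕ} (h : Perf G s p m) (hZ : center G = ⊥) (ht : t.Prime) (htm : ¬ t ∣ m)
    (hb : ∀ j, s ∣ t ^ j - 1 → b ∣ j)
    (hidx : ∀ c ∈ CO G, c ≠ Nat.card G → ∀ j, b ∣ j → j ≤ (Nat.card G).factorization t → t ^ j * c ≤ Nat.card G) :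
    pCore t G = ⊥ := by
  have := Fact.mk ht
  have hA : (pCore t G).Normal := Cfsg.Agent.Lib.Cores.pCore_normal _
  have hApg : IsPGroup t ↥(pCore t G) := Cfsg.Agent.Lib.Cores.pCore_isPGroup _
  by_contra hne
  obtain ⟨j, hj⟩ := IsPGroup.iff_card.1 hApg
  have hjle : j ≤ (Nat.card G).factorization t := by
    rw [← ht.pow_dvd_iff_le_factorization Nat.card_pos.ne', ← hj]
    exact Subgroup.card_subgroup_dvd_card _
  obtain ⟨x0, hx0⟩ := Subgroup.ne_bot_iff_exists_ne_one.1 hne
  obtain ⟨x, hx, hx1⟩ : ∃ x ∈ pCore t G, x ≠ 1 := ⟨(x0 : G), x0.2, fun h => hx0 (Subtype.ext h)⟩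
  have h1 := index_lt_of_mem hA hx hx1
  have h2 : Nat.card ↥(Cz x) ≠ Nat.card G := by
    intro h3
    have h4 : Cz x = ⊤ := Subgroup.eq_top_of_card_eq _ h3
    apply hx1
    rw [← Subgroup.mem_bot, ← hZ, Subgroup.mem_center_iff]
    intro g
    exact mem_Cz.1 (h4 ▸ Subgroup.mem_top g)
  have hsj : s ∣ t ^ j - 1 := by
    have := Fact.mk h.hs
    obtain ⟨y, hy⟩ := exists_prime_orderOf_dvd_card' s h.sG
    have hp1 : IsPGroup s ↥(Subgroup.zpowers y) := IsPGroup.of_card (by
      rw [Nat.card_zpowers, hy, pow_one])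
    let inst : MulAction ↥(Subgroup.zpowers y) ↥(pCore t G) :=
      { smul := fun g v => ⟨(g : G) * v * (g : G)⁻¹, hA.conj_mem v v.2 g⟩
        one_smul := fun v => Subtype.ext (by
          show ((1 : ↥(Subgroup.zpowers y)) : G) * (v : G) * ((1 : ↥(Subgroup.zpowers y)) : G)⁻¹ = v
          simp)
        mul_smul := fun g k v => Subtype.ext (by
          show ((g * k : ↥(Subgroup.zpowers y)) : G) * (v : G) * ((g * k : ↥(Subgroup.zpowers y)) : G)⁻¹ =
            (g : G) * ((k : G) * v * (k : G)⁻¹) * (g : G)⁻¹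
          rw [Subgroup.coe_mul]; group) }
    have hmod := hp1.card_modEq_card_fixedPoints (α := ↥(pCore t G))
    have hfix : MulAction.fixedPoints ↥(Subgroup.zpowers y) ↥(pCore t G) = {1} := by
      ext v
      constructor
      · intro hv
        have h4 : (y : G) * v * (y : G)⁻¹ = v := congrArg Subtype.val (hv ⟨y, Subgroup.mem_zpowers y⟩)
        have h5 : (v : G) ∈ Cz y := by
          rw [mem_Cz]
          calc (v : G) * y = (y * v * y⁻¹) * y := by rw [h4]
            _ = y * v := by group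
        have h6 : orderOf (v : G) ∣ m := by
          rw [← h.cent y hy]
          exact dvd_card_of_mem h5
        obtain ⟨k, hk⟩ := (IsPGroup.iff_orderOf.1 hApg) v
        have h7 : orderOf (v : G) = t ^ k := by rw [Subgroup.orderOf_coe, hk]
        have h8 : k = 0 := by
          by_contra hk0
          exact htm ((dvd_pow_self t hk0).trans (h7 ▸ h6))
        rw [h8, pow_zero, orderOf_eq_one_iff] at h7
        exact Subtype.ext h7
      · rintro rfl g
        apply Subtype.ext
        show (g : G) * (1 : G) * (g : G)⁻¹ = 1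
        group
    have h4 : Nat.card ↑({1} : Set ↥(pCore t G)) = 1 := by simp
    rw [hfix, h4, hj] at hmod
    exact (Nat.modEq_iff_dvd' (Nat.one_le_pow _ _ ht.pos)).1 hmod.symm
  have h3 := hidx _ (mem_CO x) h2 j (hb j hsj) hjle
  have h5 := Subgroup.card_mul_index (Cz x)
  rw [hj] at h1
  have h6 : (Cz x).index * Nat.card ↥(Cz x) < t ^ j * Nat.card ↥(Cz x) :=
    Nat.mul_lt_mul_of_pos_right h1 Nat.card_pos
  rw [mul_comm, h5] at h6
  omega

/-- **The simple section.** -/
theorem final_of (hS : Solv.{u}) (hG : Same G S) (h : Perf G s p m) (hpS : p ∣ Nat.card S)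
    (hdom : s ^ (Nat.card S).factorization s ≤ p ^ (Nat.card S).factorization p) (hOp : pCore p G = ⊥)
    (hOl : ∀ l : ℕ, l.Prime → l ∣ m → pCore l G = ⊥) :
    ∃ (K : Subgroup G) (_ : K.Normal) (N : Subgroup (G ⧸ K)), Sect G p s K N ∧
      (∀ t : ℕ, t.Prime → ¬ t ∣ m → pCore t G = ⊥ → ¬ t ∣ Nat.card ↥K) ∧
      ((∀ l : ℕ, l.Prime → l ≠ p → pCore l G = ⊥) → Nat.card ↥K = 1) := by
  obtain ⟨K, hKn, N, hNn, hNs, h1, h2, h3, h4, h5, h6, h7, h8, h9⟩ := h.final hS (by rw [hG.card]; exact hpS)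
    (by rw [hG.card]; exact hdom) hOp hOl
  refine ⟨K, hKn, N, ⟨hNn, hNs, h1, h2, h3, h4, h5, h6, h7⟩, h8, fun hl => h9 fun l hlp => ?_⟩
  by_cases hlp' : l = p
  · rw [hlp']; exact hOp
  · exact hl l hlp hlp'

end Cfsg.Agent.H402.CS.Generic
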