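import Mathlib
import Cfsg.Agent.H402.CS.Generic
import Cfsg.Agent.H402.CS.NuLight
import Cfsg.Agent.H277.CS.Reg
import Cfsg.Agent.H157.CS.Size
import Cfsg.Agent.S0283
import Cfsg.Agent.S2150
import Cfsg.Agent.S2151
import Cfsg.Agent.S2152
import Cfsg.Agent.S2153

/-!
# `PSU_n(q)`, `n ≥ 4`: the simple section (helper402, S3677)
-/

set_option autoImplicit false

namespace Cfsg.Agent.H402.CS.PsuAll

open Subgroup Cfsg Cfsg.Agent.H902 Cfsg.Agent.H431.CS Cfsg.Agent.H402.CS.One Cfsg.Agent.H370.AAM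
open Cfsg.Agent.H402.CS.PslRow Cfsg.Agent.H402.CS.Generic Cfsg.Agent.H402.CS.NuLight
open Cfsg.Agent.H363.Frat (pow_dvd_of_normal NonAdj)
open Cfsg.Agent.H969.CS (CO Cz mem_Cz mem_CO)

universe u v

/-- the least index of a proper subgroup of `PSU_n(q)` -/
def mu (n q : ℕ) : ℕ :=
  if n = 4 then (q + 1) * (q ^ 3 + 1) else if Odd n then (q ^ n + 1) * (q ^ (n - 1) - 1) / (q ^ 2 - 1)
    else if q = 2 then 2 ^ (n - 1) * (2 ^ n - 1) / 3 else (q ^ n - 1) * (q ^ (n - 1) + 1) / (q ^ 2 - 1)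

/-- the arithmetic input -/
def NumU : Prop :=
  ∀ {q n t M : ℕ}, 2 ≤ q → 4 ≤ n → t.Prime → ¬ t ∣ q → ¬ (n = 4 ∧ q = 3 ∧ t = 2) → ¬ (q = 2 ∧ t = 3) →
    Nat.gcd n (q + 1) * M =
      q ^ (n * (n - 1) / 2) * ∏ i ∈ Finset.range (n - 1), (if Even i then q ^ (i + 2) - 1 else q ^ (i + 2) + 1) →
    t ^ M.factorization t ≤ mu n q

/-- the centralizer order of the elements of order `s`, `ord_s(-q) = n - 1` -/
def mU (n q : ℕ) : ℕ := ((q : ℤ) ^ (n - 1) - (-1) ^ (n - 1)).natAbs / Nat.gcd n (q + 1)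

theorem gcd_dvd_pow (n q : ℕ) : Nat.gcd n (q + 1) ∣ ((q : ℤ) ^ (n - 1) - (-1) ^ (n - 1)).natAbs := by
  refine (Nat.gcd_dvd_right _ _).trans ?_
  rw [← Int.natCast_dvd_natCast, Int.dvd_natAbs]
  have h := sub_dvd_pow_sub_pow (q : ℤ) (-1) (n - 1)
  push_cast
  simpa using h

theorem mU_mul (n q : ℕ) : mU n q * Nat.gcd n (q + 1) = ((q : ℤ) ^ (n - 1) - (-1) ^ (n - 1)).natAbs :=
  Nat.div_mul_cancel (gcd_dvd_pow n q)

theorem pow_eq_one_of_dvd {r n q : ℕ} (h : r ∣ ((q : ℤ) ^ (n - 1) - (-1) ^ (n - 1)).natAbs) :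
    (-(q : ZMod r)) ^ (n - 1) = 1 := by
  have h1 : (r : ℤ) ∣ (q : ℤ) ^ (n - 1) - (-1) ^ (n - 1) := Int.natCast_dvd.2 h
  have h2 : (((q : ℤ) ^ (n - 1) - (-1) ^ (n - 1) : ℤ) : ZMod r) = 0 := (ZMod.intCast_zmod_eq_zero_iff_dvd _ _).2 h1
  push_cast at h2
  rw [neg_pow, sub_eq_zero.1 h2, ← mul_pow, neg_one_mul, neg_neg, one_pow]

theorem pow_eq_one {r n q : ℕ} (h : r ∣ mU n q) : (-(q : ZMod r)) ^ (n - 1) = 1 :=
  pow_eq_one_of_dvd (h.trans (Dvd.intro _ (mU_mul n q)))

/-- `3 ∤ m` for `q = 2`, `3 ∣ n` -/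
theorem three_not_dvd {n : ℕ} (hn : 4 ≤ n) (h3 : 3 ∣ n) : ¬ 3 ∣ mU n 2 := by
  intro h
  have hg : Nat.gcd n (2 + 1) = 3 := Nat.gcd_eq_right h3
  have h1 := mU_mul n 2
  rw [hg] at h1
  have h9 : 9 ∣ ((2 : ℤ) ^ (n - 1) - (-1) ^ (n - 1)).natAbs := by
    have h2 : 3 * 3 ∣ mU n 2 * 3 := Nat.mul_dvd_mul_right h 3
    rw [h1] at h2
    exact h2
  have h4 := pow_eq_one_of_dvd (q := 2) (r := 9) (n := n) (by exact_mod_cast h9)
  have h5 : orderOf (-((2 : ℕ) : ZMod 9)) = 3 := by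
    rw [orderOf_eq_iff (by norm_num)]
    exact ⟨by decide, by decide⟩
  have h6 := orderOf_dvd_of_pow_eq_one h4
  rw [h5] at h6
  omega

variable {F : Type} [Field F] [Fintype F] {n p f : ℕ}

/-- the least index -/
theorem minIndex {q : ℕ} (hF : Fintype.card F = q ^ 2) (hq : 2 ≤ q) (hn : 4 ≤ n) (h26 : q = 2 → Even n → n ≠ 4 → 6 ∣ n)
    (H : Subgroup (PSU n F q)) (hH : H ≠ ⊤) : mu n q ≤ H.index := by
  unfold mu
  split_ifs with h1 h2 h3
  · subst h1
    exact (Cfsg.Agent.S2150.result q hF hq).1 H hH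
  · have h5 : n ≠ 4 := h1
    exact (Cfsg.Agent.S2151.result q hF hq n (by omega) h2).1 H hH
  · subst h3
    have h6 := h26 rfl (Nat.not_odd_iff_even.1 h2) h1
    exact (Cfsg.Agent.S2153.result (by rw [hF]; norm_num) n h6 (Nat.le_of_dvd (by omega) h6)).1 H hH
  · have h5 : n ≠ 5 := by
      rintro rfl
      exact h2 (by decide)
    exact (Cfsg.Agent.S2152.result q hF (by omega) n (by omega) (Nat.not_odd_iff_even.1 h2)).1 H hH

theorem real_psu (hp : p.Prime) (hf : 1 ≤ f) (hF : Fintype.card F = (p ^ f) ^ 2) (hn : 4 ≤ n) :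
    Art.Real (.U n) p f (Nat.card (PSU n F (p ^ f))) :=
  Names.psu_real (F := F) hp hf hF (by omega : 3 ≤ n) (by omega)

theorem fac_psu (hp : p.Prime) (hf : 1 ≤ f) (hF : Fintype.card F = (p ^ f) ^ 2) (hn : 4 ≤ n) :
    (Nat.card (PSU n F (p ^ f))).factorization p = f * (n * (n - 1) / 2) := by
  have h1 := (real_psu hp hf hF hn).P_self
  rw [Art.P, ← pow_mul] at h1
  exact Nat.pow_right_injective hp.two_le h1

theorem p_dvd_psu (hp : p.Prime) (hf : 1 ≤ f) (hF : Fintype.card F = (p ^ f) ^ 2) (hn : 4 ≤ n) :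
    p ∣ Nat.card (PSU n F (p ^ f)) := by
  by_contra hcon
  have hN := fac_psu hp hf hF hn
  rw [Nat.factorization_eq_zero_of_not_dvd hcon] at hN
  have hNpos : 0 < n * (n - 1) / 2 := by
    apply Nat.div_pos _ (by norm_num)
    nlinarith [Nat.sub_add_cancel (show 1 ≤ n by omega)]
  have : 0 < f * (n * (n - 1) / 2) := Nat.mul_pos hf hNpos
  omega

theorem center_psu (hp : p.Prime) (hf : 1 ≤ f) (hF : Fintype.card F = (p ^ f) ^ 2) (hn : 4 ≤ n) :
    center (PSU n F (p ^ f)) = ⊥ := by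
  have hfin : Finite (PSU n F (p ^ f)) := Quotient.finite _
  have hsim : IsSimpleGroup (PSU n F (p ^ f)) := Cfsg.Agent.S0283.result hF n (by omega) (by omega)
  rcases hsim.eq_bot_or_eq_top_of_normal (center (PSU n F (p ^ f))) inferInstance with h | h
  · exact h
  · exfalso
    -- a commutative simple group has prime order
    obtain ⟨k, ⟨x, hx⟩, -⟩ := Cfsg.Agent.H277.CS.reg_psu (F := F) (n := n) hp hf hF (by omega)
    have h3 : centralizer ({x} : Set (PSU n F (p ^ f))) = ⊤ := by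
      rw [eq_top_iff]
      intro g _
      rw [mem_centralizer_singleton_iff]
      have : g ∈ center (PSU n F (p ^ f)) := h ▸ mem_top g
      exact (mem_center_iff.1 this x).symm
    have h4 : Nat.card (PSU n F (p ^ f)) = p ^ k := by
      have hx' : Nat.card ↥(centralizer ({x} : Set (PSU n F (p ^ f)))) = p ^ k := hx
      rw [← hx', h3, Subgroup.card_top]
    obtain ⟨r, b, hr, hrp, -, -, -, ho, -⟩ := exists_prime (p := p) (f := f) (v := n) hp hf (by omega) (by omega)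
    have h5 := prime_dvd_psu (m := n) hF (by omega) hr (by rw [ho]; omega) (by rw [ho])
    rw [h4] at h5
    exact hrp ((Nat.prime_dvd_prime_iff_eq hr hp).1 (hr.dvd_of_dvd_pow h5))

/-- the cores for the primes different from `p` -/
theorem cores (numU : NumU) {G : Type u} [Group G] [Finite G] (hp : p.Prime) (hf : 1 ≤ f)
    (hF : Fintype.card F = (p ^ f) ^ 2) (hn : 4 ≤ n) (hG : Same G (PSU n F (p ^ f)))
    (h26 : p ^ f = 2 → Even n → n ≠ 4 → 6 ∣ n)
    (hZ : center G = ⊥) {t : ℕ} (ht : t.Prime) (htp : t ≠ p) (h43 : ¬ (n = 4 ∧ p ^ f = 3 ∧ t = 2))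
    (h2 : ¬ (p ^ f = 2 ∧ t = 3)) : pCore t G = ⊥ := by
  have hfin : Finite (PSU n F (p ^ f)) := Quotient.finite _
  have hY := real_psu (F := F) (n := n) hp hf hF hn
  have hq := hY.q_ge
  refine pCore_eq_bot_of_minIndex hG hZ ht (center_psu hp hf hF hn) fun H hH => ?_
  exact (numU hq hn ht (fun h => htp ((Nat.prime_dvd_prime_iff_eq ht hp).1 (ht.dvd_of_dvd_pow h))) h43 h2 hY.eq).trans
    (minIndex hF hq hn h26 H hH)

/-- `O_2(G) = 1` for `PSU_4(3)` -/
theorem core43 {G : Type u} [Group G] [Finite G] (hF : Fintype.card F = (3 ^ 1) ^ 2) (hG : Same G (PSU 4 F (3 ^ 1)))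
    {s : ℕ} (hso : orderOf (-((3 ^ 1 : ℕ) : ZMod s)) = 4 - 1) (hP : Perf G s 3 (mU 4 (3 ^ 1)))
    (hZ : center G = ⊥) : pCore 2 G = ⊥ := by
  have hfin : Finite (PSU 4 F (3 ^ 1)) := Quotient.finite _
  have hY := real_psu (F := F) (n := 4) Nat.prime_three le_rfl hF le_rfl
  have hcard : Nat.card (PSU 4 F (3 ^ 1)) = 3265920 := by
    have h := hY.eq
    have e1 : Art.dd (.U 4) (3 ^ 1) = 4 := by decide
    have e2 : (3 ^ 1 : ℕ) ^ Art.NN (.U 4) * Art.num (.U 4) (3 ^ 1) = 13063680 := by decide +kernel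
    rw [e1, e2] at h
    omega
  have hs7 : s = 7 := by
    have h1 : (-((3 ^ 1 : ℕ) : ZMod s)) ^ 3 = 1 := by
      have := pow_orderOf_eq_one (-((3 ^ 1 : ℕ) : ZMod s))
      rwa [hso] at this
    have h2 : ((28 : ℕ) : ZMod s) = 0 := by
      push_cast at h1 ⊢
      linear_combination -h1
    have h3 : s ∣ 2 ^ 2 * 7 := (ZMod.natCast_eq_zero_iff 28 s).1 h2
    rcases hP.hs.dvd_mul.1 h3 with h4 | h4
    · exfalso
      have h5 := (Nat.prime_dvd_prime_iff_eq hP.hs Nat.prime_two).1 (hP.hs.dvd_of_dvd_pow h4)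
      subst h5
      have h6 : orderOf (-((3 ^ 1 : ℕ) : ZMod 2)) = 1 := by rw [orderOf_eq_one_iff]; decide
      omega
    · exact (Nat.prime_dvd_prime_iff_eq hP.hs (by norm_num)).1 h4
  subst hs7
  have hord : orderOf ((2 : ℕ) : ZMod 7) = 3 := by
    rw [orderOf_eq_iff (by norm_num)]
    exact ⟨by decide, by decide⟩
  refine pCore_eq_bot_of_order (b := 3) hP hZ Nat.prime_two ?_ ?_ ?_
  · have : mU 4 (3 ^ 1) = 7 := by decide
    rw [this]
    norm_num
  · intro j hj
    rwa [Cfsg.Agent.Lib.Zsigmondy.dvd_pow_sub_one_iff (by norm_num), hord] at hj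
  · intro c hc hcG j hj hjle
    have hfac2 : (Nat.card G).factorization 2 = 7 := by
      rw [hG.card, hcard]
      have h1 : (3265920 : ℕ) = 2 ^ 7 * 25515 := by norm_num
      rw [h1, Nat.factorization_mul (by norm_num) (by norm_num), Finsupp.add_apply,
        Nat.Prime.factorization_pow (by norm_num), Finsupp.single_eq_same,
        Nat.factorization_eq_zero_of_not_dvd (by norm_num)]
    rw [hfac2] at hjle
    have hj6 : 2 ^ j ≤ 2 ^ 6 := Nat.pow_le_pow_right (by norm_num) (by omega)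
    have h112 : ∀ c ∈ CO G, c ≠ Nat.card G → 112 * c ≤ Nat.card (PSU 4 F (3 ^ 1)) := by
      refine co_bound hG (P := fun c => 112 * c ≤ Nat.card (PSU 4 F (3 ^ 1))) ?_
      intro x hx
      have h1 : centralizer ({x} : Set (PSU 4 F (3 ^ 1))) ≠ ⊤ := by
        intro h
        apply hx
        rw [← Subgroup.mem_bot, ← center_psu Nat.prime_three le_rfl hF le_rfl, Subgroup.mem_center_iff]
        intro g
        exact mem_centralizer_singleton_iff.1 (h ▸ Subgroup.mem_top g)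
      have h2 := (Cfsg.Agent.S2150.result (3 ^ 1) hF (by norm_num)).1 _ h1
      have h3 := Subgroup.card_mul_index (centralizer ({x} : Set (PSU 4 F (3 ^ 1))))
      norm_num at h2
      rw [← h3, mul_comm]
      exact Nat.mul_le_mul_left _ h2
    have h1 := h112 c hc hcG
    rw [← hG.card] at h1
    calc 2 ^ j * c ≤ 2 ^ 6 * c := Nat.mul_le_mul_right _ hj6
      _ ≤ 112 * c := Nat.mul_le_mul_right _ (by norm_num)
      _ ≤ _ := h1

theorem neg_two_three : orderOf (-(2 : ZMod 3)) = 1 := by rw [orderOf_eq_one_iff]; decide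

/-- the two primes -/
theorem exists_rs (hp : p.Prime) (hf : 1 ≤ f) (hn : 4 ≤ n) (h42 : ¬ (p = 2 ∧ f = 1 ∧ n = 4)) :
    ∃ r a s b : ℕ, r.Prime ∧ s.Prime ∧ r ≠ p ∧ s ≠ p ∧ (∀ j, r ∣ p ^ j - 1 → a ∣ j) ∧ (∀ j, s ∣ p ^ j - 1 → b ∣ j) ∧
      orderOf (-((p ^ f : ℕ) : ZMod r)) = n ∧ orderOf (-((p ^ f : ℕ) : ZMod s)) = n - 1 ∧
      f * (n * (n - 1) / 2) < Nat.lcm a b := by
  obtain ⟨r, a, hr, hrp, hra, -, -, hro, ha⟩ := exists_prime (p := p) (f := f) (v := n) hp hf (by omega) (by omega)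
  obtain ⟨s, b, hs, hsp, hsb, -, -, hso, hb⟩ := exists_prime (p := p) (f := f) (v := n - 1) hp hf (by omega) (by omega)
  refine ⟨r, a, s, b, hr, hs, hrp, hsp, fun j => (hra j).1, fun j => (hsb j).1, hro, hso, ?_⟩
  rcases ha with rfl | ⟨rfl, rfl, rfl, rfl, -⟩
  · rcases hb with rfl | ⟨rfl, rfl, h6, rfl, -⟩
    · have hpos : 0 < n * (n - 1) := Nat.mul_pos (by omega) (by omega)
      have h1 : f * (n * (n - 1) / 2) < f * (n * (n - 1)) := Nat.mul_lt_mul_of_pos_left (by omega) hf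
      refine h1.trans_le ?_
      have hcop : Nat.Coprime n (n - 1) := by
        obtain ⟨k, rfl⟩ : ∃ k, n = k + 1 := ⟨n - 1, by omega⟩
        rw [Nat.add_sub_cancel]
        exact (Nat.coprime_self_add_left (m := k) (n := 1)).2 (Nat.coprime_one_left k)
      rcases Nat.even_or_odd n with he | ho
      · have ho : Odd (n - 1) := by
          obtain ⟨k, hk⟩ := he
          exact ⟨k - 1, by omega⟩
        rw [mul_comm n, Nat.lcm_comm]
        exact lt_lcm ho he hcop.symm (by omega) (by omega)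
      · have he : Even (n - 1) := by
          obtain ⟨k, hk⟩ := ho
          exact ⟨k, by omega⟩
        exact lt_lcm ho he hcop (by omega) (by omega)
    · have h7 : n = 7 := by omega
      subst h7
      have : al 7 = 14 := al_odd (by decide)
      rw [this]
      decide
  · rcases hb with rfl | ⟨-, -, h6, -, -⟩
    · have : al 5 = 10 := al_odd (by decide)
      show 2 * (6 * (6 - 1) / 2) < Nat.lcm 3 (2 * al 5)
      rw [this]
      decide
    · omega

/-- **The simple section, `PSU_n(q)`, `n ≥ 4`**, for `q ≥ 3`, or `q = 2` and `3 ∣ n`. -/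
theorem psu_sect (numU : NumU) {G : Type u} [Group G] [Finite G] (hS : Solv.{u}) (hp : p.Prime) (hf : 1 ≤ f)
    (hF : Fintype.card F = (p ^ f) ^ 2) (hn : 4 ≤ n) (hG : Same G (PSU n F (p ^ f)))
    (hlat : ∀ s : ℕ, s.Prime → orderOf (-((p ^ f : ℕ) : ZMod s)) = n - 1 → Lat (PSU n F (p ^ f)) p s (mU n (p ^ f)))
    (hcase : 3 ≤ p ^ f ∨ (p = 2 ∧ f = 1 ∧ 3 ∣ n)) :
    ∃ (s : ℕ) (K : Subgroup G) (_ : K.Normal) (N : Subgroup (G ⧸ K)), Sect G p s K N ∧ Perf G s p (mU n (p ^ f)) ∧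
      orderOf (-((p ^ f : ℕ) : ZMod s)) = n - 1 ∧
      (∀ r : ℕ, r.Prime → r ≠ p → orderOf (p : ZMod r) = f * Art.DM (.U n) → ¬ r ∣ Nat.card ↥K) := by
  have hfin : Finite (PSU n F (p ^ f)) := Quotient.finite _
  have hY := real_psu (F := F) (n := n) hp hf hF hn
  have hpS := p_dvd_psu (F := F) (n := n) hp hf hF hn
  have hfac := fac_psu (F := F) (n := n) hp hf hF hn
  have h42 : ¬ (p = 2 ∧ f = 1 ∧ n = 4) := by
    rintro ⟨rfl, rfl, rfl⟩
    rcases hcase with h | ⟨-, -, h⟩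
    · norm_num at h
    · norm_num at h
  have hq2 : p ^ f = 2 → p = 2 ∧ f = 1 := by
    intro hq
    have hp2 : p = 2 := by
      have : p ∣ 2 := hq ▸ dvd_pow_self p (by omega)
      exact (Nat.prime_dvd_prime_iff_eq hp Nat.prime_two).1 this
    subst hp2
    exact ⟨rfl, Nat.pow_right_injective (le_refl 2) (by simpa using hq)⟩
  have h26 : p ^ f = 2 → Even n → n ≠ 4 → 6 ∣ n := by
    intro hq he _
    rcases hcase with h | ⟨-, -, h⟩
    · omega
    · have := he.two_dvd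
      omega
  have hdom : ∀ s : ℕ, s.Prime → s ≠ p → s ^ (Nat.card (PSU n F (p ^ f))).factorization s ≤
      p ^ (Nat.card (PSU n F (p ^ f))).factorization p := by
    intro s hs hsp
    have h1 := hY.dom (by simp) hs hsp (by
        rintro ⟨h, -⟩
        have : n = 3 := by simpa using h
        omega) (by
        rintro ⟨h, h', -⟩
        have : n = 4 := by simpa using h
        obtain ⟨h3, h4⟩ := hq2 h'
        exact h42 ⟨h3, h4, this⟩)
    rw [Art.P, ← pow_mul] at h1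
    rw [hfac]
    exact h1
  obtain ⟨kr, hreg, -⟩ := Cfsg.Agent.H277.CS.reg_psu (F := F) (n := n) hp hf hF (by omega)
  obtain ⟨r, a, s, b, hr, hs, hrp, hsp, ha, hb, hro, hso, hlcm⟩ := exists_rs hp hf hn h42
  have hL := hlat s hs hso
  have hP := perf_of_lat hL hs hp hsp hG hpS
  have hZ := center_eq_bot_of hG hP ⟨kr, hreg⟩
  have hrS : r ∣ Nat.card (PSU n F (p ^ f)) := prime_dvd_psu (m := n) hF (by omega) hr (by rw [hro]; omega) (by rw [hro])
  have hOp : pCore p G = ⊥ := pCore_eq_bot hG hP hZ hr hrS ha hb hfac hlcm fun x hx hrx =>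
    Cfsg.Agent.H157.CS.size_psu_top hp hf hF hn hr hro x hx hrx
  -- the cores
  have hcore : ∀ t : ℕ, t.Prime → t ≠ p → ¬ (p ^ f = 2 ∧ t = 3) → pCore t G = ⊥ := by
    intro t ht htp h23
    by_cases h43 : n = 4 ∧ p ^ f = 3 ∧ t = 2
    · obtain ⟨rfl, hq, rfl⟩ := h43
      have hp3 : p = 3 := by
        have : p ∣ 3 := hq ▸ dvd_pow_self p (by omega)
        exact (Nat.prime_dvd_prime_iff_eq hp Nat.prime_three).1 this
      subst hp3
      have hf1 : f = 1 := Nat.pow_right_injective (by norm_num : 2 ≤ 3) (by simpa using hq)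
      subst hf1
      exact core43 hF hG hso hP hZ
    · exact cores numU hp hf hF hn hG h26 hZ ht htp h43 h23
  have h3m : p ^ f = 2 → ¬ 3 ∣ mU n (p ^ f) := by
    intro hq
    rcases hcase with h | ⟨-, -, h⟩
    · omega
    · rw [hq]
      exact three_not_dvd hn h
  obtain ⟨K, hK, N, h1, h2, h3⟩ := final_of hS hG hP hpS (hdom s hs hsp) hOp
    (fun l hl hlm => hcore l hl (fun h => hP.not_p_m (h ▸ hlm)) (by rintro ⟨h, rfl⟩; exact h3m h hlm))
  refine ⟨s, K, hK, N, h1, hP, hso, fun t ht htp hto => ?_⟩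
  rcases Nat.lt_or_ge 2 (p ^ f) with hq | hq
  · -- `K = 1`
    rw [h3 fun l hl hlp => hcore l hl hlp (by omega)]
    exact fun h => ht.one_lt.ne' (Nat.dvd_one.1 h)
  · -- `q = 2`
    have hq' : p ^ f = 2 := le_antisymm hq hY.q_ge
    obtain ⟨rfl, rfl⟩ := hq2 hq'
    have h3n : 3 ∣ n := by
      rcases hcase with h | ⟨-, -, h⟩
      · omega
      · exact h
    have := Fact.mk ht
    have ht2 : (2 : ZMod t) ≠ 0 := by
      intro h
      have h4 : t ∣ 2 := by
        rw [← ZMod.natCast_eq_zero_iff]; exact_mod_cast h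
      exact htp ((Nat.prime_dvd_prime_iff_eq ht Nat.prime_two).1 h4)
    rcases Nat.even_or_odd n with he | ho
    · -- `ord (-2) = n - 1`
      have hDM : Art.DM (.U n) = 2 * (n - 1) := if_pos he
      have hno : Odd (n - 1) := by
        obtain ⟨k, hk⟩ := he
        exact ⟨k - 1, by omega⟩
      have h5 : orderOf (-(2 : ZMod t)) = n - 1 := by
        apply orderOf_neg_of ht2
        rw [al_odd hno, ← hDM, ← one_mul (Art.DM _), ← hto]
        norm_cast
      have hL' := hlat t ht (by rw [← h5]; norm_num)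
      have hP' := perf_of_lat hL' ht hp htp hG hpS
      intro htK
      have h6 : 2 ^ (Nat.card G).factorization 2 ∣ K.index := by
        have h7 : 2 ^ (Nat.card G).factorization 2 ∣ Nat.card ↥K * K.index := by
          rw [Subgroup.card_mul_index]; exact Nat.ordProj_dvd _ _
        exact (Nat.Coprime.pow_left _ ((Nat.Prime.coprime_iff_not_dvd Nat.prime_two).2 h1.pK)).dvd_of_dvd_mul_left h7
      have h8 := pow_dvd_of_normal Nat.prime_two ht htp.symm hP'.na.symm K h6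
      have h9 := hdom t ht htp
      have h10 : t ^ (Nat.card ↥K).factorization t ≤ t ^ (Nat.card G).factorization t := by
        apply Nat.pow_le_pow_right ht.pos
        exact (Nat.factorization_le_iff_dvd Nat.card_pos.ne' Nat.card_pos.ne').2 (Subgroup.card_subgroup_dvd_card K) t
      rw [← hG.card] at h9
      have h11 : 1 < t ^ (Nat.card ↥K).factorization t :=
        Nat.one_lt_pow ((ht.factorization_pos_of_dvd Nat.card_pos.ne' htK).ne') ht.one_lt
      have h12 := Nat.le_of_dvd (by omega) h8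
      omega
    · -- `ord (-2) = n`
      have hDM : Art.DM (.U n) = 2 * n := if_neg (Nat.not_even_iff_odd.2 ho)
      have h5 : orderOf (-(2 : ZMod t)) = n := by
        apply orderOf_neg_of ht2
        rw [al_odd ho, ← hDM, ← one_mul (Art.DM _), ← hto]
        norm_cast
      refine h2 t ht ?_ (hcore t ht htp ?_)
      · intro h
        have h6 := orderOf_dvd_of_pow_eq_one (pow_eq_one h)
        have h7 : orderOf (-((2 ^ 1 : ℕ) : ZMod t)) = n := by rw [← h5]; norm_num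
        rw [h7] at h6
        have := Nat.le_of_dvd (by omega) h6
        omega
      · rintro ⟨-, rfl⟩
        have h6 : n = 1 := h5.symm.trans neg_two_three
        omega

end Cfsg.Agent.H402.CS.PsuAll
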