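import Mathlib
import Cfsg.Agent.H402.CS.PslOut
import Cfsg.Agent.H402.CS.PsuAll
import Cfsg.Agent.H277.CS.Two67
import Cfsg.Agent.H365.NumL
import Cfsg.Agent.H365.NumU
import Cfsg.Agent.H446.CS.PsuSub
import Cfsg.Agent.H157.CS.Top

/-!
# S3677: the light parts of the rows `PSL_n(q)`, `PSU_n(q)`, `n ≥ 4` (helper402)
-/

set_option autoImplicit false

namespace Cfsg.Agent.H402.CS.LightAll

open Subgroup Cfsg Cfsg.Agent.H902 Cfsg.Agent.H431.CS Cfsg.Agent.H402.CS.One Cfsg.Agent.H370.AAM Matrix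
open Cfsg.Agent.H402.CS.Generic
open Cfsg.Agent.H363.Frat (NonAdj)

universe u v

theorem numL : PslAll.NumL := fun hq hn ht htq h43 hM => Cfsg.Agent.H365.NumL.num_psl hq hn ht htq h43 hM

theorem numU : PsuAll.NumU := fun hq hn ht htq h43 h2 hM => Cfsg.Agent.H365.NumU.num_psu hq hn ht htq h43 h2 hM

variable {F : Type} [Field F] [Fintype F] {n p f : ℕ}

/-- **`PSL_n(q)`, `n ≥ 4`.** -/
theorem psl {G : Type u} [Group G] [Finite G] (hS : Solv.{u}) (hp : p.Prime) (hf : 1 ≤ f)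
    (hF : Fintype.card F = p ^ f) (hn : 4 ≤ n) (hG : Same G (ProjectiveSpecialLinearGroup (Fin n) F)) :
    ∃ (s : ℕ) (K : Subgroup G) (_ : K.Normal) (N : Subgroup (G ⧸ K)), Sect G p s K N ∧ Nat.card ↥K = 1 ∧
      s.Prime ∧ s ≠ p ∧ NonAdj (G ⧸ K) s p ∧
      (orderOf ((p ^ f : ℕ) : ZMod s) = n - 1 ∨ (s = 127 ∧ p = 2 ∧ f = 1 ∧ n = 7)) := by
  obtain ⟨k, hk, -⟩ := Cfsg.Agent.H277.CS.reg_psl (F := F) (n := n) hp hf hF (by omega)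
  obtain ⟨s, m, K, hK, N, h1, h2, h3, h4⟩ := PslOut.psl_sect2 numL hS hp hf hF hn hG ⟨k, hk⟩ (by
    intro hq h67
    rcases h67 with rfl | rfl
    · exact Cfsg.Agent.H277.CS.pCore_six (by rw [hF, hq]) hG
    · exact Cfsg.Agent.H277.CS.pCore_seven (by rw [hF, hq]) hG)
  exact ⟨s, K, hK, N, h1, h2, h3.hs, h3.hsp, h3.na.quotient K, h4⟩

/-- **`PSU_n(q)`, `n ≥ 4`**, `q ≥ 3` or `q = 2`, `3 ∣ n`. -/
theorem psu {G : Type u} [Group G] [Finite G] (hS : Solv.{u}) (hp : p.Prime) (hf : 1 ≤ f)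
    (hF : Fintype.card F = (p ^ f) ^ 2) (hn : 4 ≤ n) (hG : Same G (PSU n F (p ^ f)))
    (hcase : 3 ≤ p ^ f ∨ (p = 2 ∧ f = 1 ∧ 3 ∣ n)) :
    ∃ (s : ℕ) (K : Subgroup G) (_ : K.Normal) (N : Subgroup (G ⧸ K)), Sect G p s K N ∧
      s.Prime ∧ s ≠ p ∧ NonAdj (G ⧸ K) s p ∧ orderOf (-((p ^ f : ℕ) : ZMod s)) = n - 1 ∧
      (∀ r : ℕ, r.Prime → r ≠ p → orderOf (p : ZMod r) = f * Art.DM (.U n) → ¬ r ∣ Nat.card ↥K) := by
  obtain ⟨s, K, hK, N, h1, h2, h3, h4⟩ := PsuAll.psu_sect numU hS hp hf hF hn hG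
    (fun s hs hso => Cfsg.Agent.H446.CS.lat_psu_sub hp hf hF hn hs hso) hcase
  exact ⟨s, K, hK, N, h1, h2.hs, h2.hsp, h2.na.quotient K, h3, h4⟩

/-- the lattices for `PSU_n(2)`, `3 ∤ n` -/
theorem lat_two (hF : Fintype.card F = 4) (hn : 4 ≤ n) (h3 : ¬ 3 ∣ n) :
    ∀ t : ℕ, t.Prime → t ≠ 2 → (orderOf (-(2 : ZMod t)) = n ∨ orderOf (-(2 : ZMod t)) = n - 1) →
      LatW (PSU n F 2) 2 t := by
  intro t ht _ ho
  rcases ho with ho | ho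
  · exact (Cfsg.Agent.H157.CS.lat_psu_two hF (by omega) h3 ht ho).toLatW
  · have h := Cfsg.Agent.H446.CS.lat_psu_sub (F := F) (f := 1) Nat.prime_two le_rfl (by rw [hF]; norm_num) hn ht
      (by rw [← ho]; norm_num)
    have h' := h.toLatW
    simpa using h'

end Cfsg.Agent.H402.CS.LightAll
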