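import Mathlib
import Cfsg.Agent.H370.AAM.Tail
import Cfsg.Agent.H370.AAM.TailC
import Cfsg.Agent.H402.CS.LightAll
import Cfsg.Agent.S4319

/-!
# S3677: the row `PSL_n(q)`, `n ≥ 4` (helper402, helper370)
-/

set_option autoImplicit false

namespace Cfsg.Agent.H402.CS.RowPsl

open Subgroup Cfsg Cfsg.Agent.H902 Cfsg.Agent.H431.CS Cfsg.Agent.H402.CS.One Cfsg.Agent.H370.AAM Matrix
open Cfsg.Agent.H402.CS.Generic

universe u v

theorem solv : Solv.{u} := fun _ _ _ _ _ _ _ hcop h => Cfsg.Agent.S4319.result hcop (Or.inl h)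

/-- the cardinality of a finite field -/
theorem exists_card (F : Type) [Field F] [Fintype F] : ∃ p f : ℕ, p.Prime ∧ 1 ≤ f ∧ Fintype.card F = p ^ f := by
  obtain ⟨p, hp⟩ := CharP.exists F
  obtain ⟨f, hpr, hf⟩ := FiniteField.card F p
  exact ⟨p, f, hpr, f.pos, hf⟩

/-- **The row `PSL_n(q)`, `n ≥ 4`.** -/
theorem row_psl {G : Type u} [Group G] [Finite G] {F : Type} [Field F] [Fintype F] {n : ℕ} (hn : 4 ≤ n)
    (hG : Same G (ProjectiveSpecialLinearGroup (Fin n) F)) : IsSimpleGroup G := by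
  obtain ⟨p, f, hp, hf, hF⟩ := exists_card F
  have hY : Art.Real (.L n) p f (Nat.card G) := by
    rw [hG.card]; exact PslAll.real_psl hp hf hF hn
  obtain ⟨s, K, hK, N, hSect, hK1, hs, hsp, hna, ho⟩ := LightAll.psl solv hp hf hF hn hG
  have hNn := hSect.normal
  have hNs := hSect.simple
  rcases ho with ho | ⟨rfl, rfl, rfl, rfl⟩
  · exact rowL hSect.nab hSect.out hY hn hs hsp ho hna hSect.sN hK1
  · exact rowL72 hSect.nab hSect.out hY hna hK1

end Cfsg.Agent.H402.CS.RowPsl
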