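import Mathlib
import Cfsg.Agent.H370.AAM.Tail
import Cfsg.Agent.H370.AAM.UTwo
import Cfsg.Agent.H402.CS.LightAll
import Cfsg.Agent.H402.CS.RowPsl

/-!
# S3677: the row `PSU_n(q)`, `n ≥ 4`, except `PSU_4(2)` (helper402, helper370)
-/

set_option autoImplicit false

namespace Cfsg.Agent.H402.CS.RowPsu

open Subgroup Cfsg Cfsg.Agent.H902 Cfsg.Agent.H431.CS Cfsg.Agent.H402.CS.One Cfsg.Agent.H370.AAM
open Cfsg.Agent.H402.CS.Generic

universe u v

/-- the cardinality of a finite field which is a square -/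
theorem exists_card_sq {F : Type} [Field F] [Fintype F] {q : ℕ} (hq : Fintype.card F = q ^ 2) :
    ∃ p f : ℕ, p.Prime ∧ 1 ≤ f ∧ q = p ^ f := by
  obtain ⟨p, e, hp, he, hF⟩ := RowPsl.exists_card F
  rw [hF] at hq
  have h1 : q ∣ p ^ e := hq ▸ dvd_pow_self q (by norm_num)
  obtain ⟨f, -, rfl⟩ := (Nat.dvd_prime_pow hp).1 h1
  refine ⟨p, f, hp, ?_, rfl⟩
  by_contra hcon
  have hf0 : f = 0 := by omega
  rw [hf0, pow_zero, one_pow] at hq
  have := Nat.one_lt_pow (show e ≠ 0 by omega) hp.one_lt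
  omega

/-- **The row `PSU_n(q)`, `n ≥ 4`, `(n, q) ≠ (4, 2)`.** -/
theorem row_psu {G : Type u} [Group G] [Finite G] {F : Type} [Field F] [Fintype F] {n q : ℕ}
    (hF : Fintype.card F = q ^ 2) (hn : 4 ≤ n) (h42 : ¬ (n = 4 ∧ q = 2)) (hG : Same G (PSU n F q)) :
    IsSimpleGroup G := by
  obtain ⟨p, f, hp, hf, rfl⟩ := exists_card_sq hF
  have hq2 : 2 ≤ p ^ f := hp.two_le.trans (Nat.le_self_pow (by omega) p)
  have h1 : p ^ f = 2 → p = 2 ∧ f = 1 := by
    intro hq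
    have hp2 : p = 2 := by
      have : p ∣ 2 := hq ▸ dvd_pow_self p (by omega)
      exact (Nat.prime_dvd_prime_iff_eq hp Nat.prime_two).1 this
    subst hp2
    exact ⟨rfl, Nat.pow_right_injective (le_refl 2) (by simpa using hq)⟩
  by_cases h2 : p ^ f = 2 ∧ ¬ 3 ∣ n
  · obtain ⟨hq, h3⟩ := h2
    rw [hq] at hF hG h42
    have hF4 : Fintype.card F = 4 := by rw [hF]; norm_num
    exact row_psu_two_of (F := F) (n := n) (by omega) (by rintro rfl; exact h3 (by norm_num)) hF4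
      (LightAll.lat_two hF4 hn h3) hG
  · have hcase : 3 ≤ p ^ f ∨ (p = 2 ∧ f = 1 ∧ 3 ∣ n) := by
      by_cases hq : p ^ f = 2
      · right
        refine ⟨(h1 hq).1, (h1 hq).2, ?_⟩
        by_contra h3
        exact h2 ⟨hq, h3⟩
      · left; omega
    have hY : Art.Real (.U n) p f (Nat.card G) := by
      rw [hG.card]; exact PsuAll.real_psu hp hf hF hn
    obtain ⟨s, K, hK, N, hSect, hs, hsp, hna, ho, hr⟩ := LightAll.psu RowPsl.solv hp hf hF hn hG hcase
    have hNn := hSect.normal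
    have hNs := hSect.simple
    exact rowU hSect.nab hSect.out hY hn (by
      rintro ⟨rfl, rfl, rfl⟩
      exact h42 ⟨rfl, by norm_num⟩) hs hsp ho hna hSect.sN hSect.pK hr

end Cfsg.Agent.H402.CS.RowPsu
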