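import Cfsg.Agent.H75.PlusFinal

/-!
Isometries which commute with the Siegel transformations of the perpendicular of `⟨u, X u⟩` (three elements).
-/

set_option autoImplicit false

namespace Cfsg.Agent.H402.CS.PlusMin

open QuadraticMap Cfsg.Agent.LieClassical.OrthCore Cfsg.Agent.LieClassical.OrthTrans
open Cfsg.Agent.LieClassical.OrthFinite Cfsg.Agent.H75.OrthIdx

variable {F V : Type*} [Field F] [AddCommGroup V] [Module F V] {Q : QuadraticForm F V}

theorem eig_of_comm (hQ : Nondeg Q) {X : V ≃ₗ[F] V} (h2 : (2 : F) ≠ 0) {g w : V}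
    (hg : Q g = 0) (hg0 : g ≠ 0) (hgw : polar Q g w = 0) (hw : Q w ≠ 0)
    (hc : X * sg Q g w = sg Q g w * X) : ∃ c : F, X g = c • g := by
  have hww : polar Q w w ≠ 0 := by
    rw [polar_self']
    exact mul_ne_zero h2 hw
  have hwg : polar Q w g = 0 := by rw [polar_comm]; exact hgw
  have hgg : polar Q g g = 0 := polar_self_of_sing hg
  have key : ∀ v, sg Q g w (sg Q g w v) - sg Q g w v - sg Q g w v + v = -(polar Q g v * polar Q w w) • g := by
    intro v
    have e : sg Q g w v = v + polar Q g v • w - polar Q w v • g - (Q w * polar Q g v) • g := sg_apply hg hgw v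
    have e1 : sg Q g w g = g := by
      rw [sg_apply hg hgw, hgg, hwg]; simp
    have e2 : sg Q g w w = w - polar Q w w • g := by
      rw [sg_apply hg hgw, hgw]; simp
    have e3 : sg Q g w (sg Q g w v) = sg Q g w v + polar Q g v • sg Q g w w - polar Q w v • sg Q g w g -
        (Q w * polar Q g v) • sg Q g w g := by
      conv_lhs => rw [e]
      rw [map_sub, map_sub, map_add, map_smul, map_smul, map_smul]
    rw [e3, e1, e2, e]
    module
  have hcv : ∀ v, X (sg Q g w v) = sg Q g w (X v) := fun v => DFunLike.congr_fun hc v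
  obtain ⟨y, hy⟩ := hQ.exists_polar_eq hg0 1
  have h3 := congrArg X (key y)
  rw [map_add, map_sub, map_sub, hcv, hcv, key (X y), map_smul, hy, one_mul] at h3
  refine ⟨polar Q g (X y), ?_⟩
  have h4 : polar Q w w • X g = polar Q w w • (polar Q g (X y) • g) := by
    have : -(polar Q g (X y) * polar Q w w) • g = -polar Q w w • X g := h3
    rw [neg_smul, neg_smul, neg_inj] at this
    rw [← this, smul_smul, mul_comm]
  exact smul_right_injective V hww h4

section fin

variable [Finite F] [FiniteDimensional F V]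

theorem eig_perp (hQ : Nondeg Q) {X : V ≃ₗ[F] V} (h2 : (2 : F) ≠ 0) (T : Submodule F V)
    (hT : 2 * Module.finrank F T + 2 < Module.finrank F V)
    (hc : ∀ g w, g ∈ perp Q T → w ∈ perp Q T → Q g = 0 → polar Q g w = 0 → X * sg Q g w = sg Q g w * X) :
    ∀ g ∈ perp Q T, Q g = 0 → ∃ c : F, X g = c • g := by
  intro g hg hgQ
  by_cases hg0 : g = 0
  · exact ⟨0, by rw [hg0]; simp⟩
  obtain ⟨w, hw, hwQ⟩ := exists_nonsing_mem hQ (perp Q (T ⊔ Submodule.span F {g})) (by
    have h4 := finrank_perp_add hQ (T ⊔ Submodule.span F {g})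
    have h5 := Submodule.finrank_add_le_finrank_add_finrank T (Submodule.span F {g})
    rw [finrank_span_singleton hg0] at h5
    omega)
  have hgw : polar Q g w = 0 := hw g (Submodule.mem_sup_right (Submodule.mem_span_singleton_self g))
  have hwT : w ∈ perp Q T := perp_anti le_sup_left hw
  exact eig_of_comm hQ h2 hgQ hg0 hgw hwQ (hc g w hg hwT hgQ hgw)

theorem shear (hQ : Nondeg Q) {X : V ≃ₗ[F] V} (hX : X ∈ O Q) (h1 : ∀ c : F, c ≠ 0 → c * c = 1) {g w : V} {c : F}
    (hg : Q g = 0) (hg0 : g ≠ 0) (hgw : polar Q g w = 0) (hXg : X g = c • g)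
    (hc : X * sg Q g w = sg Q g w * X) : ∃ e : F, X w = c • w + e • g := by
  have hc0 : c ≠ 0 := by
    rintro rfl
    rw [zero_smul] at hXg
    exact hg0 ((map_eq_zero_iff _ X.injective).1 hXg)
  have e1 : sg Q (X g) (X w) = sg Q g w := by
    rw [← sg_conj hX, hc, mul_inv_cancel_right]
  rw [hXg, sg_smul_left hc0] at e1
  have hp : polar Q g (c • X w) = 0 := by
    have : polar Q (X g) (X w) = 0 := by rw [polar_map hX]; exact hgw
    rw [hXg, polar_smul_left] at this
    rw [polar_smul_right]; exact this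
  have hpw : polar Q g (-w) = 0 := by rw [polar_neg_right, hgw, neg_zero]
  have e2 : sg Q g (c • X w + -w) = 1 := by
    rw [← sg_mul hp hpw, e1, ← sg_inv hgw, mul_inv_cancel]
  obtain ⟨e, he⟩ := eq_smul_of_sg_eq_one hQ hg hg0 (by rw [polar_add_right, hp, hpw, add_zero]) e2
  refine ⟨c * e, ?_⟩
  have h3 : c • (c • X w + -w) = c • (e • g) := by rw [he]
  rw [smul_add, smul_smul, h1 c hc0, one_smul, smul_neg, smul_smul] at h3
  rw [← h3]; abel

/-- `X` is a scalar on `T^⊥` -/
theorem scalar_perp (hQ : Nondeg Q) {X : V ≃ₗ[F] V} (hX : X ∈ O Q) (h2 : (2 : F) ≠ 0)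
    (h1 : ∀ c : F, c ≠ 0 → c * c = 1) (T : Submodule F V)
    (hT : 2 * Module.finrank F T + 2 < Module.finrank F V) (hT6 : Module.finrank F T + 6 ≤ Module.finrank F V)
    (hc : ∀ g w, g ∈ perp Q T → w ∈ perp Q T → Q g = 0 → polar Q g w = 0 → X * sg Q g w = sg Q g w * X) :
    ∃ c : F, c ≠ 0 ∧ ∀ w ∈ perp Q T, X w = c • w := by
  have eig := eig_perp hQ h2 T hT hc
  have cancel : ∀ {z : V} {a b : F}, z ≠ 0 → a • z = b • z → a = b := fun hz h => smul_left_injective F hz h
  -- singular vectors in `T^⊥` orthogonal to a list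
  have ex : ∀ (S : Submodule F V), Module.finrank F S ≤ 3 →
      ∃ g ∈ perp Q T, g ∈ perp Q S ∧ g ≠ 0 ∧ Q g = 0 := by
    intro S hS
    obtain ⟨g, hg, hg0, hgQ⟩ := exists_sing_mem (Q := Q) (perp Q (T ⊔ S)) (by
      have h4 := finrank_perp_add hQ (T ⊔ S)
      have h5 := Submodule.finrank_add_le_finrank_add_finrank T S
      omega)
    exact ⟨g, perp_anti le_sup_left hg, perp_anti le_sup_right hg, hg0, hgQ⟩
  -- claim B
  have hB : ∀ w ∈ perp Q T, ∀ g ∈ perp Q T, g ≠ 0 → Q g = 0 → polar Q g w = 0 → ∀ c : F, X g = c • g →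
      X w = c • w := by
    intro w hw g hg hg0 hgQ hgw c hXg
    obtain ⟨y, hy⟩ := hQ.exists_polar_eq hg0 1
    obtain ⟨g', hg', hgS, hg'0, hg'Q⟩ := ex (Submodule.span F {w, g, y}) (by
      have := finrank_span_finset_le_card (R := F) (M := V) (({w, g, y} : Set V).toFinite.toFinset)
      have h3 : (({w, g, y} : Set V).toFinite.toFinset).card ≤ 3 := by
        rw [← Set.ncard_eq_toFinset_card _ (Set.toFinite _)]
        refine (Set.ncard_insert_le _ _).trans ?_
        have := Set.ncard_insert_le g ({y} : Set V)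
        rw [Set.ncard_singleton] at this
        omega
      rw [Set.Finite.coe_toFinset] at this
      exact this.trans h3)
    have hwg' : polar Q w g' = 0 := hgS w (Submodule.subset_span (by simp))
    have hgg' : polar Q g g' = 0 := hgS g (Submodule.subset_span (by simp))
    have hyg' : polar Q y g' = 0 := hgS y (Submodule.subset_span (by simp))
    have hind : ∀ e : F, g = e • g' → False := by
      intro e he
      have h5 : polar Q y g = 1 := by rw [polar_comm]; exact hy
      rw [he, polar_smul_right, hyg', smul_zero] at h5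
      exact zero_ne_one h5
    obtain ⟨c', hc'⟩ := eig g' hg' hg'Q
    have hcc : c' = c := by
      obtain ⟨e, he⟩ := shear hQ hX h1 hgQ hg0 hgg' hXg (hc g g' hg hg' hgQ hgg')
      rw [hc'] at he
      by_cases he0 : e = 0
      · rw [he0, zero_smul, add_zero] at he
        exact cancel hg'0 he
      · exfalso
        apply hind (e⁻¹ * (c' - c))
        have h6 : (c' - c) • g' = e • g := by rw [sub_smul, he]; abel
        rw [mul_smul, h6, smul_smul, inv_mul_cancel₀ he0, one_smul]
    subst hcc
    obtain ⟨e, he⟩ := shear hQ hX h1 hgQ hg0 hgw hXg (hc g w hg hw hgQ hgw)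
    have hg'w : polar Q g' w = 0 := by rw [polar_comm]; exact hwg'
    obtain ⟨e', he'⟩ := shear hQ hX h1 hg'Q hg'0 hg'w hc' (hc g' w hg' hw hg'Q hg'w)
    have h7 : e • g = e' • g' := add_left_cancel (he.symm.trans he')
    by_cases he0 : e = 0
    · rw [he, he0, zero_smul, add_zero]
    · exfalso
      apply hind (e⁻¹ * e')
      rw [mul_smul, ← h7, smul_smul, inv_mul_cancel₀ he0, one_smul]
  obtain ⟨g0, hg0T, -, hg00, hg0Q⟩ := ex ⊥ (by simp)
  obtain ⟨c, hc0⟩ := eig g0 hg0T hg0Q
  have hcne : c ≠ 0 := by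
    rintro rfl
    rw [zero_smul] at hc0
    exact hg00 ((map_eq_zero_iff _ X.injective).1 hc0)
  refine ⟨c, hcne, fun w hw => ?_⟩
  obtain ⟨g, hg, hgS, hgn, hgQ⟩ := ex (Submodule.span F {w, g0}) (by
      have := finrank_span_finset_le_card (R := F) (M := V) (({w, g0} : Set V).toFinite.toFinset)
      have h3 : (({w, g0} : Set V).toFinite.toFinset).card ≤ 3 := by
        rw [← Set.ncard_eq_toFinset_card _ (Set.toFinite _)]
        refine (Set.ncard_insert_le _ _).trans ?_
        rw [Set.ncard_singleton]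
        omega
      rw [Set.Finite.coe_toFinset] at this
      exact this.trans h3)
  have hwg : polar Q w g = 0 := hgS w (Submodule.subset_span (by simp))
  have hg0g : polar Q g0 g = 0 := hgS g0 (Submodule.subset_span (by simp))
  have h5 := hB g hg g0 hg0T hg00 hg0Q hg0g c hc0
  exact hB w hw g hg hgn hgQ (by rw [polar_comm]; exact hwg) c h5

theorem det_refl {v : V} (hv : Q v ≠ 0) (h2 : (2 : F) ≠ 0) :
    LinearMap.det (refl Q v hv : V →ₗ[F] V) = -1 := by
  have e : (refl Q v hv : V →ₗ[F] V) = LinearMap.transvection (-((Q v)⁻¹ • polarBilin Q v)) v := by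
    ext x
    rw [LinearEquiv.coe_coe, refl_apply, LinearMap.transvection.apply]
    simp only [LinearMap.neg_apply, LinearMap.smul_apply, polarBilin_apply_apply, smul_eq_mul, neg_smul]
    abel
  rw [e, LinearMap.transvection.det]
  simp only [LinearMap.neg_apply, LinearMap.smul_apply, polarBilin_apply_apply, smul_eq_mul, polar_self']
  field_simp
  ring

theorem det_of_mem_E (hG : Good Q) {g : V ≃ₗ[F] V} (hg : g ∈ E Q) : LinearMap.det (g : V →ₗ[F] V) = 1 := by
  rw [← hG.E_perfect] at hg
  have h1 : ⁅E Q, E Q⁆ ≤ (LinearEquiv.det (R := F) (M := V)).ker := by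
    rw [Subgroup.commutator_le]
    intro a _ b _
    rw [MonoidHom.mem_ker, map_commutatorElement]
    exact commutatorElement_eq_one_iff_mul_comm.2 (mul_comm _ _)
  have h2 := MonoidHom.mem_ker.1 (h1 hg)
  have h3 := congrArg Units.val h2
  rwa [LinearEquiv.coe_det, Units.val_one] at h3

theorem contra (hG : Good Q) {m : ℕ} (hd : Module.finrank F V = 2 * m) (hm : 4 ≤ m) (h2 : (2 : F) ≠ 0)
    (h1 : ∀ c : F, c ≠ 0 → c * c = 1) {X : V ≃ₗ[F] V} (hX : X ∈ E Q) {u : V} (hu : Q u = 0)
    (hbad : ∀ c : F, X u ≠ c • u)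
    (hc : ∀ g w, polar Q u g = 0 → polar Q (X u) g = 0 → polar Q u w = 0 → polar Q (X u) w = 0 →
      Q g = 0 → polar Q g w = 0 → X * sg Q g w = sg Q g w * X) : False := by
  have hQ := hG.nondeg
  have hXO := E_le_O hX
  set T : Submodule F V := Submodule.span F {u, X u} with hT
  have hTm : ∀ x, x ∈ perp Q T ↔ polar Q u x = 0 ∧ polar Q (X u) x = 0 := by
    intro x
    rw [hT, perp_span]
    simp
  have hTr : Module.finrank F T ≤ 2 := by
    have := finrank_span_finset_le_card (R := F) (M := V) (({u, X u} : Set V).toFinite.toFinset)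
    have h3 : (({u, X u} : Set V).toFinite.toFinset).card ≤ 2 := by
      rw [← Set.ncard_eq_toFinset_card _ (Set.toFinite _)]
      refine (Set.ncard_insert_le _ _).trans ?_
      rw [Set.ncard_singleton]
    rw [Set.Finite.coe_toFinset] at this
    exact this.trans h3
  have hc' : ∀ g w, g ∈ perp Q T → w ∈ perp Q T → Q g = 0 → polar Q g w = 0 →
      X * sg Q g w = sg Q g w * X := fun g w hg hw hgQ hgw =>
    hc g w ((hTm g).1 hg).1 ((hTm g).1 hg).2 ((hTm w).1 hw).1 ((hTm w).1 hw).2 hgQ hgw
  by_cases hβ : polar Q u (X u) = 0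
  · obtain ⟨c, hcu⟩ := eig_perp hQ h2 T (by omega) hc' u
      ((hTm u).2 ⟨polar_self_of_sing hu, by rw [polar_comm]; exact hβ⟩) hu
    exact hbad c hcu
  obtain ⟨ε, hε0, hε⟩ := scalar_perp hQ hXO h2 h1 T (by omega) (by omega) hc'
  have hεε := h1 ε hε0
  set β := polar Q u (X u) with hβd
  have hXuQ : Q (X u) = 0 := by rw [mem_O.1 hXO]; exact hu
  have huu : polar Q u u = 0 := polar_self_of_sing hu
  have hXX : polar Q (X u) (X u) = 0 := polar_self_of_sing hXuQ
  have hXu : polar Q (X u) u = β := by rw [polar_comm]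
  -- `X (X u)` is in `T`
  have hXXT : X (X u) ∈ T := by
    rw [← perp_perp hQ T]
    intro w hw
    have h3 : polar Q (X w) (X (X u)) = 0 := by
      rw [polar_map hXO, polar_comm]
      exact ((hTm w).1 hw).2
    rw [hε w hw, polar_smul_left, smul_eq_mul] at h3
    rcases mul_eq_zero.1 h3 with h | h
    · exact absurd h hε0
    · exact h
  obtain ⟨a, b, hab⟩ := Submodule.mem_span_pair.1 hXXT
  have hXXu : X (X u) = u := by
    have h3 : polar Q (X u) (X (X u)) = β := by rw [polar_map hXO]
    rw [← hab, polar_add_right, polar_smul_right, polar_smul_right, hXX, hXu, smul_zero, add_zero,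
      smul_eq_mul] at h3
    have ha : a = 1 := mul_right_cancel₀ hβ (by rw [h3, one_mul])
    have h4 : Q (X (X u)) = 0 := by rw [mem_O.1 hXO]; exact hXuQ
    rw [← hab, Q_add, QuadraticMap.map_smul, QuadraticMap.map_smul, hu, hXuQ, polar_smul_left,
      polar_smul_right, smul_zero, smul_zero, zero_add, zero_add, ha, one_smul, smul_eq_mul] at h4
    have hb : b = 0 := by
      rcases mul_eq_zero.1 h4 with h | h
      · exact h
      · exact absurd h hβ
    rw [← hab, ha, hb, one_smul, zero_smul, add_zero]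
  -- the reflection
  set z := u - ε • X u with hz
  have hzQ : Q z = -(ε * β) := by
    rw [hz, sub_eq_add_neg, ← neg_smul, Q_add, QuadraticMap.map_smul, hu, hXuQ, polar_smul_right]
    simp only [smul_eq_mul, mul_zero, zero_add]
    ring
  have hzQ0 : Q z ≠ 0 := by
    rw [hzQ, neg_ne_zero]
    exact mul_ne_zero hε0 hβ
  have hru : refl Q z hzQ0 u = ε • X u := by
    rw [refl_apply, hzQ]
    have : polar Q z u = -(ε * β) := by
      rw [hz, polar_sub_left, polar_smul_left, huu, hXu, smul_eq_mul, zero_sub]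
    rw [this, inv_mul_cancel₀ (by rw [← hzQ]; exact hzQ0), one_smul, hz]
    abel
  have hrXu : refl Q z hzQ0 (X u) = ε • u := by
    have h5 : refl Q z hzQ0 (ε • X u) = u := by
      rw [← hru]
      exact DFunLike.congr_fun (refl_mul_self hzQ0) u
    rw [map_smul] at h5
    have h6 := congrArg (fun x => ε • x) h5
    simp only [smul_smul, hεε, one_smul] at h6
    exact h6
  have hrw : ∀ w ∈ perp Q T, refl Q z hzQ0 w = w := by
    intro w hw
    have h3 := (hTm w).1 hw
    rw [refl_apply, hz, polar_sub_left, polar_smul_left, h3.1, h3.2]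
    simp
  have hall : ∀ v, X v = ε • refl Q z hzQ0 v := by
    intro v
    -- decompose
    set w := v - (β⁻¹ * polar Q (X u) v) • u - (β⁻¹ * polar Q u v) • X u with hw
    have hwT : w ∈ perp Q T := by
      rw [hTm]
      constructor
      · rw [hw, polar_sub_right, polar_sub_right, polar_smul_right, polar_smul_right, huu, ← hβd]
        simp only [smul_eq_mul]
        field_simp
        ring
      · rw [hw, polar_sub_right, polar_sub_right, polar_smul_right, polar_smul_right, hXX, hXu]
        simp only [smul_eq_mul]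
        field_simp
        ring
    have hv : v = w + (β⁻¹ * polar Q (X u) v) • u + (β⁻¹ * polar Q u v) • X u := by
      rw [hw]; abel
    have e1 : X v = X w + (β⁻¹ * polar Q (X u) v) • X u + (β⁻¹ * polar Q u v) • X (X u) := by
      conv_lhs => rw [hv]
      rw [map_add, map_add, map_smul, map_smul]
    have e2 : refl Q z hzQ0 v = refl Q z hzQ0 w + (β⁻¹ * polar Q (X u) v) • refl Q z hzQ0 u +
        (β⁻¹ * polar Q u v) • refl Q z hzQ0 (X u) := by
      conv_lhs => rw [hv]
      rw [map_add, map_add, map_smul, map_smul]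
    rw [e1, e2, hru, hrXu, hrw w hwT, hε w hwT, hXXu, smul_add, smul_add]
    congr 1
    · congr 1
      rw [smul_comm, smul_smul ε ε, hεε, one_smul]
    · rw [smul_comm, smul_smul ε ε, hεε, one_smul]
  -- determinant
  have hdet := det_of_mem_E hG hX
  have e : (X : V →ₗ[F] V) = ε • (refl Q z hzQ0 : V →ₗ[F] V) := by
    ext v
    exact hall v
  rw [e, LinearMap.det_smul, det_refl hzQ0 h2, hd, pow_mul, _root_.sq ε, hεε, one_pow] at hdet
  apply h2
  linear_combination -hdet

end fin

end Cfsg.Agent.H402.CS.PlusMin
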