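import Cfsg.Agent.H402.CS.PlusGeo
import Cfsg.Agent.S2145
import Cfsg.Agent.S2146
import Cfsg.Agent.H431.CS.Defs

/-!
S3677, row `POmega^+_2n`: the class sizes are larger than `q ^ (2 (n - 1))`.
-/

set_option autoImplicit false

namespace Cfsg.Agent.H402.CS.PlusMin

open QuadraticMap Cfsg.Agent.LieClassical.OrthCore Cfsg.Agent.LieClassical.OrthTrans
open Cfsg.Agent.LieClassical.OrthFinite Cfsg.Agent.LieClassical.OrthForms Cfsg.Agent.H75.OrthIdx
open Cfsg.Agent.H370.AAM

section fin

variable {F V : Type*} [Field F] [AddCommGroup V] [Module F V] {Q : QuadraticForm F V}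
variable [Finite F] [FiniteDimensional F V]

theorem norm_perp_pair (hG : Good Q) {m : ℕ} (hd : Module.finrank F V = 2 * m) (hm : 4 ≤ m) (u u' : V) (c : F) :
    ∃ z, Q z = c ∧ ∀ i : Fin 2, polar Q (![u, u'] i) z = 0 := by
  have hTr : Module.finrank F (Submodule.span F {u, u'}) ≤ 2 := by
    have := finrank_span_finset_le_card (R := F) (M := V) (({u, u'} : Set V).toFinite.toFinset)
    have h3 : (({u, u'} : Set V).toFinite.toFinset).card ≤ 2 := by
      rw [← Set.ncard_eq_toFinset_card _ (Set.toFinite _)]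
      refine (Set.ncard_insert_le _ _).trans ?_
      rw [Set.ncard_singleton]
    rw [Set.Finite.coe_toFinset] at this
    exact this.trans h3
  obtain ⟨z, hz, hzQ⟩ := exists_norm_perp hG.nondeg (Submodule.span F {u, u'}) (Or.inl (by omega)) c
  rw [perp_span] at hz
  refine ⟨z, hzQ, ?_⟩
  intro i
  fin_cases i
  · exact hz u (by simp)
  · exact hz u' (by simp)

/-- the orbit of `X u` under the stabiliser of `u` is large -/
theorem orbit_ge (hG : Good Q) {m : ℕ} (hC : PlusCount Q m) (h3 : Nat.card F = 3)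
    {u u' : V} (hu : Q u = 0) (hu' : Q u' = 0) (hind : ∀ c : F, u' ≠ c • u) (hu0 : u ≠ 0) :
    3 ^ (2 * m - 2) ≤ {w : V | ∃ g ∈ E Q, g u = u ∧ g u' = w}.ncard := by
  classical
  have : Finite V := Module.finite_of_finite F
  have hQ := hG.nondeg
  have hd := hC.finrank
  have hm := hC.four
  obtain ⟨f, hf⟩ := exists_hyp hQ hu hu0
  have hli : LinearIndependent F ![u, u'] := by
    rw [LinearIndependent.pair_iff]
    intro s t hst
    have ht : t = 0 := by
      by_contra ht
      apply hind (-(t⁻¹ * s))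
      have h5 : t • u' = -(s • u) := by
        rw [eq_neg_iff_add_eq_zero, add_comm]; exact hst
      have h6 := congrArg (fun x => t⁻¹ • x) h5
      simp only [smul_smul, inv_mul_cancel₀ ht, one_smul, smul_neg] at h6
      rw [h6, neg_smul]
    rw [ht, zero_smul, add_zero] at hst
    rcases smul_eq_zero.1 hst with h | h
    · exact ⟨h, ht⟩
    · exact absurd h hu0
  have hsub : {w : V | (polar Q u w = polar Q u u' ∧ Q w = 0) ∧ w ∉ Submodule.span F {u}} ⊆
      {w : V | ∃ g ∈ E Q, g u = u ∧ g u' = w} := by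
    rintro w ⟨⟨hw1, hw2⟩, hw3⟩
    have hliw : LinearIndependent F ![u, w] := by
      rw [LinearIndependent.pair_iff]
      intro s t hst
      have ht : t = 0 := by
        by_contra ht
        apply hw3
        rw [Submodule.mem_span_singleton]
        refine ⟨-(t⁻¹ * s), ?_⟩
        have h5 : t • w = -(s • u) := by
          rw [eq_neg_iff_add_eq_zero, add_comm]; exact hst
        have h6 := congrArg (fun x => t⁻¹ • x) h5
        simp only [smul_smul, inv_mul_cancel₀ ht, one_smul, smul_neg] at h6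
        rw [h6, neg_smul]
      rw [ht, zero_smul, add_zero] at hst
      rcases smul_eq_zero.1 hst with h | h
      · exact ⟨h, ht⟩
      · exact absurd h hu0
    have huu : polar Q u u = 0 := polar_self_of_sing hu
    obtain ⟨g, hg, hgx⟩ := exists_E_map hG ![u, u'] ![u, w] hli hliw (by
      intro i; fin_cases i
      · rfl
      · show Q u' = Q w; rw [hu', hw2]) (by
      intro i j
      fin_cases i <;> fin_cases j
      · rfl
      · exact hw1.symm
      · show polar Q u' u = polar Q w u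
        rw [polar_comm, polar_comm Q w u, hw1]
      · show polar Q u' u' = polar Q w w
        rw [polar_self_of_sing hu', polar_self_of_sing hw2]) (fun c _ => norm_perp_pair hG hd hm u u' c)
    exact ⟨g, hg, hgx 0, hgx 1⟩
  refine le_trans ?_ (Set.ncard_le_ncard hsub (Set.toFinite _))
  by_cases hβ : polar Q u u' = 0
  · have e1 := ncard_norm_perp_sing hQ hf 0
    have e2 := hC.zero
    rw [h3] at e1 e2
    rw [hβ]
    have e3 : {w : V | polar Q u w = 0 ∧ Q w = 0}.ncard ≤
        {w : V | (polar Q u w = 0 ∧ Q w = 0) ∧ w ∉ Submodule.span F {u}}.ncard + 3 := by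
      have e4 : {w : V | polar Q u w = 0 ∧ Q w = 0} ⊆
          {w : V | (polar Q u w = 0 ∧ Q w = 0) ∧ w ∉ Submodule.span F {u}} ∪ (Submodule.span F {u} : Set V) := by
        intro w hw
        by_cases h : w ∈ Submodule.span F {u}
        · exact Or.inr h
        · exact Or.inl ⟨hw, h⟩
      refine (Set.ncard_le_ncard e4 (Set.toFinite _)).trans ((Set.ncard_union_le _ _).trans ?_)
      have e5 : (Submodule.span F {u} : Set V).ncard = 3 := by
        have := Module.natCard_eq_pow_finrank (K := F) (V := Submodule.span F {u})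
        rw [finrank_span_singleton hu0, pow_one, h3] at this
        exact this
      rw [e5]
    have e6 : 3 ^ (2 * m - 1) = 3 * 3 ^ (2 * m - 2) := by
      rw [← pow_succ', show 2 * m - 2 + 1 = 2 * m - 1 by omega]
    have e7 : 3 ^ m = 3 * 3 ^ (m - 1) := by
      rw [← pow_succ', show m - 1 + 1 = m by omega]
    have e8 : 27 ≤ 3 ^ (m - 1) := by
      calc 27 = 3 ^ 3 := by norm_num
        _ ≤ 3 ^ (m - 1) := Nat.pow_le_pow_right (by norm_num) (by omega)
    rw [hd] at e1
    omega
  · have e1 := ncard_norm_of_polar_ne hQ hf hβ 0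
    rw [h3, hd] at e1
    rw [← e1]
    refine Set.ncard_le_ncard ?_ (Set.toFinite _)
    rintro w ⟨hw1, hw2⟩
    refine ⟨⟨hw1, hw2⟩, fun h => ?_⟩
    obtain ⟨c, rfl⟩ := Submodule.mem_span_singleton.1 h
    rw [polar_smul_right, polar_self_of_sing hu, smul_zero] at hw1
    exact hβ hw1.symm

/-- three elements: the centralizer in `E Q` of a non-scalar element has large index -/
theorem index_cent (hG : Good Q) {m : ℕ} (hC : PlusCount Q m) (h3 : Nat.card F = 3) (X : E Q)
    (hX : ¬ ∃ c : F, ∀ v, (X : V ≃ₗ[F] V) v = c • v) :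
    3 * 3 ^ (2 * m - 2) ≤ (Subgroup.centralizer ({X} : Set (E Q))).index := by
  classical
  have : Finite V := Module.finite_of_finite F
  have hfE : Finite (V ≃ₗ[F] V) := by
    refine Finite.of_injective (fun g : V ≃ₗ[F] V => (g : V → V)) ?_
    intro a b h
    ext x
    exact congrFun h x
  have : Finite (E Q) := inferInstance
  have hQ := hG.nondeg
  have hd := hC.finrank
  have hm := hC.four
  have : Fintype F := Fintype.ofFinite F
  have hcF : Fintype.card F = 3 := by rw [← Nat.card_eq_fintype_card]; exact h3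
  have h1 : ∀ c : F, c ≠ 0 → c * c = 1 := by
    intro c hc
    have := FiniteField.pow_card_sub_one_eq_one c hc
    rw [hcF] at this
    rw [← _root_.sq]; exact this
  have h30 : (3 : F) = 0 := by
    have := FiniteField.cast_card_eq_zero F
    rw [hcF] at this
    exact_mod_cast this
  have h2 : (2 : F) ≠ 0 := by
    intro h
    have : (1 : F) = 3 - 2 := by norm_num
    rw [h30, h, sub_zero] at this
    exact one_ne_zero this
  -- a bad singular vector
  obtain ⟨u, hu, hbad⟩ : ∃ u : V, Q u = 0 ∧ ∀ c : F, (X : V ≃ₗ[F] V) u ≠ c • u := by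
    by_contra hcon
    push Not at hcon
    exact hX (Cfsg.Agent.LieClassical.OrthSimple.good_eq_smul_of_fix hG hcon)
  have hu0 : u ≠ 0 := by
    rintro rfl
    exact hbad 0 (by simp)
  have hu'Q : Q ((X : V ≃ₗ[F] V) u) = 0 := by rw [mem_O.1 (E_le_O X.2)]; exact hu
  set C : Subgroup (E Q) := Subgroup.centralizer ({X} : Set (E Q)) with hCd
  set P : Subgroup (E Q) := MulAction.stabilizer (E Q) u with hP
  set L : Subgroup (E Q) := P ⊓ MulAction.stabilizer (E Q) ((X : V ≃ₗ[F] V) u) with hL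
  have hPm : ∀ g : E Q, g ∈ P ↔ (g : V ≃ₗ[F] V) u = u := fun g => MulAction.mem_stabilizer_iff
  have hLm : ∀ g : E Q, g ∈ L ↔ (g : V ≃ₗ[F] V) u = u ∧ (g : V ≃ₗ[F] V) ((X : V ≃ₗ[F] V) u) = (X : V ≃ₗ[F] V) u :=
    fun g => by
      rw [hL, Subgroup.mem_inf, hPm]
      exact and_congr_right fun _ => MulAction.mem_stabilizer_iff
  have hCm : ∀ g : E Q, g ∈ C ↔ g * X = X * g := fun g => by
    rw [hCd, Subgroup.mem_centralizer_singleton_iff]
    try exact eq_comm
  have hLP : L ≤ P := inf_le_left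
  -- `|P : L|`
  have hPL : 3 ^ (2 * m - 2) ≤ L.relIndex P := by
    have e1 : L.subgroupOf P = MulAction.stabilizer P ((X : V ≃ₗ[F] V) u) := by
      ext g
      rw [Subgroup.mem_subgroupOf, hLm, MulAction.mem_stabilizer_iff]
      exact ⟨fun h => h.2, fun h => ⟨(hPm g).1 g.2, h⟩⟩
    rw [Subgroup.relIndex, e1, MulAction.index_stabilizer]
    refine (orbit_ge hG hC h3 hu hu'Q hbad hu0).trans (Set.ncard_le_ncard ?_ (Set.toFinite _))
    rintro w ⟨g, hg, hgu, rfl⟩
    exact ⟨⟨⟨g, hg⟩, (hPm _).2 hgu⟩, rfl⟩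
  -- `|L : L ∩ C| ≥ 3`
  have hLC : 3 ≤ C.relIndex L := by
    by_contra hlt
    push Not at hlt
    have hne : C.relIndex L ≠ 0 := by
      have : (C.subgroupOf L).FiniteIndex := inferInstance
      exact this.index_ne_zero
    have hsq : ∀ g ∈ L, g * g ∈ C := by
      intro g hg
      rcases (show C.relIndex L = 1 ∨ C.relIndex L = 2 by omega) with h | h
      · exact C.mul_mem (Subgroup.relIndex_eq_one.1 h hg) (Subgroup.relIndex_eq_one.1 h hg)
      · have := Subgroup.mul_self_mem_of_index_two (H := C.subgroupOf L) h (⟨g, hg⟩ : L)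
        exact Subgroup.mem_subgroupOf.1 this
    refine contra hG hd hm h2 h1 X.2 hu hbad ?_
    intro g w hug hXug huw hXuw hgQ hgw
    have hw' : polar Q g (-w) = 0 := by rw [polar_neg_right, hgw, neg_zero]
    have e1 : sg Q g w = sg Q g (-w) * sg Q g (-w) := by
      rw [sg_mul hw' hw']
      congr 1
      have : (3 : F) • w = 0 := by rw [h30, zero_smul]
      have h6 : w - (-w + -w) = (3 : F) • w := by module
      rw [← sub_eq_zero, h6, this]
    have hL' : (⟨sg Q g (-w), sg_mem_E g (-w)⟩ : E Q) ∈ L := by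
      rw [hLm]
      constructor
      · show sg Q g (-w) u = u
        refine sg_fix ?_ ?_
        · rw [polar_comm]; exact hug
        · rw [polar_comm, polar_neg_right, huw, neg_zero]
      · show sg Q g (-w) ((X : V ≃ₗ[F] V) u) = (X : V ≃ₗ[F] V) u
        refine sg_fix ?_ ?_
        · rw [polar_comm]; exact hXug
        · rw [polar_comm, polar_neg_right, hXuw, neg_zero]
    have e2 := (hCm _).1 (hsq _ hL')
    have e3 := congrArg Subtype.val e2
    show (X : V ≃ₗ[F] V) * sg Q g w = sg Q g w * (X : V ≃ₗ[F] V)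
    rw [e1]
    exact e3.symm
  -- assembly
  have hPC : C ⊓ P = C ⊓ L := by
    apply le_antisymm
    · rintro g ⟨hgC, hgP⟩
      refine ⟨hgC, (hLm g).2 ⟨(hPm g).1 hgP, ?_⟩⟩
      have e1 := congrArg Subtype.val ((hCm g).1 hgC)
      have e2 : (g : V ≃ₗ[F] V) ((X : V ≃ₗ[F] V) u) = (X : V ≃ₗ[F] V) ((g : V ≃ₗ[F] V) u) :=
        DFunLike.congr_fun e1 u
      rw [e2, (hPm g).1 hgP]
    · exact inf_le_inf_left _ hLP
  calc 3 * 3 ^ (2 * m - 2) ≤ C.relIndex L * L.relIndex P := Nat.mul_le_mul hLC hPL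
    _ = (C ⊓ L).relIndex L * L.relIndex P := by rw [Subgroup.inf_relIndex_right]
    _ = (C ⊓ L).relIndex P := Subgroup.relIndex_mul_relIndex _ _ _ inf_le_right hLP
    _ = (C ⊓ P).relIndex P := by rw [hPC]
    _ = C.relIndex P := Subgroup.inf_relIndex_right _ _
    _ ≤ C.relIndex ⊤ := by
        refine Subgroup.relIndex_le_of_le_right le_top ?_
        have : (C.subgroupOf ⊤).FiniteIndex := inferInstance
        exact this.index_ne_zero
    _ = C.index := Subgroup.relIndex_top_right _

end fin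

/-- elements commuting up to the centre: at most twice as many -/
theorem index_quot {G S : Type*} [Group G] [Finite G] [Group S] (f : G →* S) (hf : Function.Surjective f)
    (hker : Nat.card f.ker ≤ 2) (X : G) (hkc : f.ker ≤ Subgroup.center G) :
    (Subgroup.centralizer ({X} : Set G)).index ≤ 2 * (Subgroup.centralizer ({f X} : Set S)).index := by
  classical
  set C : Subgroup G := Subgroup.centralizer ({X} : Set G) with hC
  set K : Subgroup G := (Subgroup.centralizer ({f X} : Set S)).comap f with hK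
  have hKi : K.index = (Subgroup.centralizer ({f X} : Set S)).index := Subgroup.index_comap_of_surjective _ hf
  rw [← hKi]
  have hCm : ∀ g : G, g ∈ C ↔ g * X = X * g := fun g => by
    rw [hC, Subgroup.mem_centralizer_singleton_iff]
    try exact eq_comm
  have hKm : ∀ g : G, g ∈ K ↔ f g * f X = f X * f g := fun g => by
    rw [hK, Subgroup.mem_comap, Subgroup.mem_centralizer_singleton_iff]
    try exact eq_comm
  have hCK : C ≤ K := by
    intro g hg
    rw [hKm, ← map_mul, (hCm g).1 hg, map_mul]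
  rw [← Subgroup.relIndex_mul_index hCK]
  refine Nat.mul_le_mul_right _ ?_
  -- the map `g ↦ g X g⁻¹ X⁻¹`
  have hφ : ∀ g : K, (g : G) * X * (g : G)⁻¹ * X⁻¹ ∈ f.ker := by
    intro g
    rw [MonoidHom.mem_ker, map_mul, map_mul, map_mul, (hKm g).1 g.2, map_inv, map_inv]
    group
  refine le_trans ?_ hker
  refine Nat.card_le_card_of_injective
    (fun c : K ⧸ C.subgroupOf K => (⟨_, hφ c.out⟩ : f.ker)) ?_
  intro c c' h
  have h1 : (c.out : G) * X * (c.out : G)⁻¹ * X⁻¹ = (c'.out : G) * X * (c'.out : G)⁻¹ * X⁻¹ := congrArg Subtype.val h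
  have h2 : (c.out : G) * X * (c.out : G)⁻¹ = (c'.out : G) * X * (c'.out : G)⁻¹ := mul_right_cancel h1
  rw [← Quotient.out_eq c, ← Quotient.out_eq c']
  refine QuotientGroup.eq.2 ?_
  show ((c.out)⁻¹ * c'.out : K) ∈ C.subgroupOf K
  rw [Subgroup.mem_subgroupOf]
  show (c.out : G)⁻¹ * (c'.out : G) ∈ C
  rw [hCm]
  have h3 : X * (c.out : G)⁻¹ = (c.out : G)⁻¹ * ((c'.out : G) * X * (c'.out : G)⁻¹) := by
    rw [← h2]; group
  calc (c.out : G)⁻¹ * (c'.out : G) * X = (c.out : G)⁻¹ * ((c'.out : G) * X * (c'.out : G)⁻¹) * c'.out := by group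
    _ = X * ((c.out : G)⁻¹ * c'.out) := by rw [← h3]; group

section plus

variable {F : Type*} [Field F] [Fintype F]

/-- three elements -/
theorem index_three (h3 : Fintype.card F = 3) {n : ℕ} (hn : 4 ≤ n)
    (x : Cfsg.POmega F (Cfsg.quadFormPlus n F)) (hx : x ≠ 1) :
    3 ^ (2 * (n - 1)) + 1 ≤ (Subgroup.centralizer ({x} : Set (Cfsg.POmega F (Cfsg.quadFormPlus n F)))).index := by
  classical
  have hC := plus_count (F := F) n hn
  have hG := good_plusForm (F := F) n hn
  have hcF : Nat.card F = 3 := by rw [Nat.card_eq_fintype_card, h3]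
  revert x
  rw [← coe_plusForm]
  intro x hx
  obtain ⟨X, rfl⟩ := omHom_surjective hG x
  have hXs : ¬ ∃ c : F, ∀ v, (X : (Fin n ⊕ Fin n → F) ≃ₗ[F] (Fin n ⊕ Fin n → F)) v = c • v := by
    rintro ⟨c, hc⟩
    apply hx
    rw [← MonoidHom.mem_ker, omHom_ker, Subgroup.mem_center_iff]
    intro g
    apply Subtype.ext
    ext1 v
    show (g : (Fin n ⊕ Fin n → F) ≃ₗ[F] (Fin n ⊕ Fin n → F)) ((X : (Fin n ⊕ Fin n → F) ≃ₗ[F] _) v) =
      (X : (Fin n ⊕ Fin n → F) ≃ₗ[F] (Fin n ⊕ Fin n → F)) ((g : (Fin n ⊕ Fin n → F) ≃ₗ[F] _) v)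
    rw [hc, hc, map_smul]
  have h1 := index_cent hG hC hcF X hXs
  have hker : Nat.card (omHom hG).ker ≤ 2 := by
    have hcard : ({c : F | c ≠ 0}).ncard = 2 := by
      have h1 : {s : F | s ≠ 0} = {0}ᶜ := rfl
      rw [h1, Set.ncard_compl, Set.ncard_singleton, hcF]
    obtain ⟨t, ht0, -⟩ := hG.sing
    rw [omHom_ker]
    choose c hc using fun z : Subgroup.center (E (plusForm n F)) => center_scalar hG z.2
    have hc0 : ∀ z, c z ≠ 0 := by
      intro z h0
      have := hc z t
      rw [h0, zero_smul] at this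
      exact ht0 ((map_eq_zero_iff _ ((z : E (plusForm n F)) : (Fin n ⊕ Fin n → F) ≃ₗ[F] (Fin n ⊕ Fin n → F)).injective).1 this)
    rw [← hcard]
    refine Nat.card_le_card_of_injective (fun z => (⟨c z, hc0 z⟩ : {c : F | c ≠ 0})) ?_
    intro z z' h
    have h4 : c z = c z' := congrArg Subtype.val h
    apply Subtype.ext
    apply Subtype.ext
    ext1 v
    rw [hc z v, hc z' v, h4]
  have hfin : Finite (E (plusForm n F)) := by
    have : Finite ((Fin n ⊕ Fin n → F) ≃ₗ[F] (Fin n ⊕ Fin n → F)) := by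
      refine Finite.of_injective (fun g : (Fin n ⊕ Fin n → F) ≃ₗ[F] (Fin n ⊕ Fin n → F) =>
        (g : (Fin n ⊕ Fin n → F) → (Fin n ⊕ Fin n → F))) ?_
      intro a b h
      ext1 x
      exact congrFun h x
    infer_instance
  have h2 := index_quot (omHom hG) (omHom_surjective hG) hker X (by rw [omHom_ker])
  have h4 : 2 ≤ 3 ^ (2 * n - 2) := by
    calc 2 ≤ 3 ^ 1 := by norm_num
      _ ≤ 3 ^ (2 * n - 2) := Nat.pow_le_pow_right (by norm_num) (by omega)
  rw [show 2 * (n - 1) = 2 * n - 2 by omega]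
  omega

end plus

universe v

/-- P2: the class sizes are larger than `q ^ (2 (n - 1))` -/
theorem min_index {F : Type v} [Field F] [Fintype F] {n : ℕ} (hn : 4 ≤ n) :
    ∀ c ∈ Co (Cfsg.POmega F (Cfsg.quadFormPlus n F)), c ≠ Nat.card (Cfsg.POmega F (Cfsg.quadFormPlus n F)) →
      ((Fintype.card F) ^ (2 * (n - 1)) + 1) * c ≤ Nat.card (Cfsg.POmega F (Cfsg.quadFormPlus n F)) := by
  classical
  rintro _ ⟨x, rfl⟩ hne
  set C := Subgroup.centralizer ({x} : Set (Cfsg.POmega F (Cfsg.quadFormPlus n F))) with hC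
  have hx : x ≠ 1 := by
    rintro rfl
    apply hne
    show Nat.card C = _
    have : C = ⊤ := by
      rw [eq_top_iff]
      intro g _
      rw [hC, Subgroup.mem_centralizer_singleton_iff]
      simp
    rw [this, Subgroup.card_top]
  have hCt : C ≠ ⊤ := by
    intro h
    apply hne
    show Nat.card C = _
    rw [h, Subgroup.card_top]
  show ((Fintype.card F) ^ (2 * (n - 1)) + 1) * Nat.card C ≤ _
  rw [← C.index_mul_card]
  refine Nat.mul_le_mul_right _ ?_
  set q := Fintype.card F with hq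
  have hq1 : 1 < q := Fintype.one_lt_card
  obtain ⟨k, rfl⟩ : ∃ k, n = k + 1 := ⟨n - 1, by omega⟩
  rcases (show q = 2 ∨ q = 3 ∨ 4 ≤ q by omega) with h | h | h
  · have h1 := (Cfsg.Agent.S2146.result (F := F) h (k + 1) (by omega)).1 C hCt
    refine le_trans ?_ h1
    rw [h, Nat.add_sub_cancel, pow_mul, ← pow_mul, mul_comm 2 k, pow_mul, pow_succ 2 k]
    have h8 : 8 ≤ 2 ^ k := by
      calc 8 = 2 ^ 3 := by norm_num
        _ ≤ 2 ^ k := Nat.pow_le_pow_right (by norm_num) (by omega)
    generalize 2 ^ k = a at *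
    obtain ⟨b, rfl⟩ : ∃ b, a = b + 8 := ⟨a - 8, by omega⟩
    have : (b + 8) * 2 - 1 = 2 * b + 15 := by omega
    rw [this]
    nlinarith
  · rw [h]
    exact index_three h hn x hx
  · have h1 := (Cfsg.Agent.S2145.result (F := F) (q := q) rfl h (k + 1) hn).1 C hCt
    refine le_trans ?_ h1
    rw [Nat.le_div_iff_mul_le (by omega), Nat.add_sub_cancel]
    have e1 : q ^ (2 * k) = q ^ k * q ^ k := by rw [two_mul, pow_add]
    rw [e1, pow_succ]
    have h8 : 1 ≤ q ^ k := Nat.one_le_pow _ _ (by omega)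
    have h9 : q ≤ q ^ k := by
      calc q = q ^ 1 := (pow_one q).symm
        _ ≤ q ^ k := Nat.pow_le_pow_right (by omega) (by omega)
    generalize q ^ k = a at *
    obtain ⟨r, hr⟩ : ∃ r, q = r + 4 := ⟨q - 4, by omega⟩
    rw [hr] at h9 ⊢
    obtain ⟨b, rfl⟩ : ∃ b, a = b + (r + 4) := ⟨a - (r + 4), by omega⟩
    have e2 : (b + (r + 4)) * (r + 4) - 1 = b * r + 4 * b + r * r + 8 * r + 15 := by
      have : (b + (r + 4)) * (r + 4) = b * r + 4 * b + r * r + 8 * r + 15 + 1 := by ring
      omega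
    have e3 : r + 4 - 1 = r + 3 := by omega
    rw [e2, e3]
    nlinarith [mul_nonneg (Nat.zero_le b) (Nat.zero_le r), mul_nonneg (Nat.zero_le b) (Nat.zero_le b),
      mul_nonneg (Nat.zero_le r) (Nat.zero_le r)]

end Cfsg.Agent.H402.CS.PlusMin
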