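import Mathlib
import Cfsg.Agent.H902.Names
import Cfsg.Agent.H902.Facts
import Cfsg.Agent.H402.CS.PslSize
import Cfsg.Agent.H402.CS.Final
import Cfsg.Agent.Lib.Zsigmondy

/-!
# The prime 127 in `PSL_7(2)` (helper402, S3677)
-/

set_option autoImplicit false

namespace Cfsg.Agent.H402.CS.Seven

open Cfsg Cfsg.Agent.H902 Cfsg.Agent.H431.CS Cfsg.Agent.H370.AAM Matrix Module Cfsg.Agent.H363.PslSpec

universe u v w

/-- the commutant of an element of a field of endomorphisms, `n` prime -/
theorem card_le_prime {F : Type u} {V : Type v} [Field F] [AddCommGroup V] [Module F V] [FiniteDimensional F V]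
    {K : Type w} [Field K] [Finite K] [Algebra F K] (f : K →ₐ[F] Module.End F V) (k : K)
    (hk : ∀ a : F, algebraMap F K a ≠ k) (hn : (finrank F V).Prime) :
    Nat.card {c : Module.End F V // c * f k = f k * c} ≤ Nat.card F ^ finrank F V := by
  have hF : Finite F := Finite.of_injective _ (algebraMap F K).injective
  have hV : Finite V := Module.finite_of_finite F
  let E := IntermediateField.adjoin F {k}
  let g : ↥E →+* Module.End F V := (f.comp E.val).toRingHom
  let instE : Module ↥E V := Module.compHom V g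
  have hsmul : ∀ (e : ↥E) (v : V), e • v = (f (e : K)) v := fun e v => rfl
  have htower : IsScalarTower F ↥E V := ⟨fun a e v => by
    rw [hsmul, hsmul]
    have : ((a • e : ↥E) : K) = a • (e : K) := rfl
    rw [this, map_smul, LinearMap.smul_apply]⟩
  have hE : Finite ↥E := inferInstance
  have hfinE : Module.Finite ↥E V := inferInstance
  have h1 : finrank F ↥E * finrank ↥E V = finrank F V := Module.finrank_mul_finrank F ↥E V
  have h2 : finrank F ↥E ≠ 1 := by
    intro h4
    have h5 : E = ⊥ := IntermediateField.finrank_eq_one_iff.1 h4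
    have h6 : k ∈ E := IntermediateField.mem_adjoin_simple_self F k
    rw [h5, IntermediateField.mem_bot] at h6
    obtain ⟨a, ha⟩ := h6
    exact hk a ha
  have h3 : finrank ↥E V = 1 := by
    rcases (Nat.dvd_prime hn).1 (Dvd.intro _ h1) with h | h
    · exact absurd h h2
    · rw [h] at h1
      exact Nat.eq_of_mul_eq_mul_left hn.pos (by rw [h1, mul_one])
  -- the injection
  let j : {c : Module.End F V // c * f k = f k * c} → (V →ₗ[↥E] V) := fun c =>
    { toFun := fun v => (c : Module.End F V) v
      map_add' := fun v w => map_add _ v w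
      map_smul' := fun e v => by
        rw [hsmul, ← Module.End.mul_apply, FieldComm.comm_of_mem f k c.2 e.2, Module.End.mul_apply]
        rfl }
  have hj : Function.Injective j := by
    intro a b hab
    apply Subtype.ext
    apply LinearMap.ext
    intro v
    exact congrArg (fun l : V →ₗ[↥E] V => l v) hab
  have hfin : Finite (V →ₗ[↥E] V) := Module.finite_of_finite ↥E
  refine (Nat.card_le_card_of_injective j hj).trans (le_of_eq ?_)
  rw [Module.natCard_eq_pow_finrank (K := ↥E) (V := V →ₗ[↥E] V), Module.finrank_linearMap, pow_mul,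
    ← Module.natCard_eq_pow_finrank (K := ↥E) (V := V), Module.natCard_eq_pow_finrank (K := F) (V := V), h3, pow_one]

variable {F : Type} [Field F] [Fintype F]

theorem order_two : orderOf ((2 : ℕ) : ZMod 127) = 7 := by
  have : Fact (Nat.Prime 7) := ⟨by norm_num⟩
  apply orderOf_eq_prime
  · decide
  · decide

/-- the centralizer orders of `PSL_7(2)` divisible by 127 -/
theorem cent (hF : Fintype.card F = 2) {x : ProjectiveSpecialLinearGroup (Fin 7) F} (hx : x ≠ 1)
    (hrx : 127 ∣ Nat.card ↥(Subgroup.centralizer ({x} : Set (ProjectiveSpecialLinearGroup (Fin 7) F)))) :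
    Nat.card ↥(Subgroup.centralizer ({x} : Set (ProjectiveSpecialLinearGroup (Fin 7) F))) = 127 := by
  have hqF : Nat.card F = 2 := by rw [Nat.card_eq_fintype_card, hF]
  have hr : (127 : ℕ).Prime := by norm_num
  obtain ⟨X, rfl⟩ := QuotientGroup.mk_surjective x
  have hX : X ∉ Subgroup.center (SpecialLinearGroup (Fin 7) F) := fun h => hx ((QuotientGroup.eq_one_iff X).2 h)
  have hle : Nat.card ↥(Subgroup.centralizer
      {(X : SpecialLinearGroup (Fin 7) F ⧸ Subgroup.center (SpecialLinearGroup (Fin 7) F))}) ≤ 128 := by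
    refine (PslSize.card_cent_le_commutant X).trans ?_
    have := Fact.mk hr
    obtain ⟨Y, hY⟩ := exists_prime_orderOf_dvd_card' 127 (hrx.trans (Quot.card_cent_dvd X))
    have hYr : (act (Y : SpecialLinearGroup (Fin 7) F)) ^ 127 = 1 := by
      rw [← map_pow]
      have h1 : ((Y : SpecialLinearGroup (Fin 7) F)) ^ 127 = 1 := by
        rw [← Subgroup.coe_pow, ← hY, pow_orderOf_eq_one, Subgroup.coe_one]
      rw [h1, map_one]
    have hY1 : act (Y : SpecialLinearGroup (Fin 7) F) ≠ 1 := by
      intro h
      have h1 : (Y : SpecialLinearGroup (Fin 7) F) = 1 := act_injective (by rw [h, map_one])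
      have h2 : Y = 1 := Subtype.ext h1
      rw [h2, orderOf_one] at hY
      exact hr.one_lt.ne hY
    have hXY : Commute (act X) (act (Y : SpecialLinearGroup (Fin 7) F)) := by
      have h1 : Commute X (Y : SpecialLinearGroup (Fin 7) F) :=
        (Subgroup.mem_centralizer_singleton_iff.1 Y.2).symm
      exact h1.map act
    obtain ⟨K, iK, iKf, iKA, f, -, hf⟩ := Cfsg.Agent.H363.CentField.exists_field (F := F) (V := Fin 7 → F) hr hYr hY1
      (by rw [finrank_fin_fun, hqF]; decide) (by
        rw [finrank_fin_fun, hqF]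
        intro d hd hd7 h
        rw [Cfsg.Agent.Lib.Zsigmondy.dvd_pow_sub_one_iff (by norm_num), order_two] at h
        have := Nat.le_of_dvd hd h
        omega)
    obtain ⟨k, hk⟩ := (hf (act X)).1 hXY
    have hle := card_le_prime f k (by
      intro a ha
      apply PslSize.act_ne_scalar hX a
      rw [← hk, ← ha, AlgHom.commutes]) (by rw [finrank_fin_fun]; norm_num)
    rw [hk, finrank_fin_fun, hqF] at hle
    exact hle
  obtain ⟨c, hc⟩ := hrx
  have hpos : 0 < Nat.card ↥(Subgroup.centralizer
      {(X : SpecialLinearGroup (Fin 7) F ⧸ Subgroup.center (SpecialLinearGroup (Fin 7) F))}) := by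
    have hfin : Finite (SpecialLinearGroup (Fin 7) F ⧸ Subgroup.center (SpecialLinearGroup (Fin 7) F)) :=
      Quotient.finite _
    exact Nat.card_pos
  have hc' : Nat.card ↥(Subgroup.centralizer
      {(X : SpecialLinearGroup (Fin 7) F ⧸ Subgroup.center (SpecialLinearGroup (Fin 7) F))}) = 127 * c := hc
  have hc1 : c = 1 := by
    rw [hc'] at hle hpos
    omega
  rw [hc1, mul_one] at hc'
  exact hc'

theorem card_seven (hF : Fintype.card F = 2) :
    Nat.card (ProjectiveSpecialLinearGroup (Fin 7) F) = 163849992929280 := by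
  have hY := Names.psl_real (F := F) (n := 7) (p := 2) (f := 1) Nat.prime_two le_rfl (by rw [hF, pow_one])
    (by norm_num) (by norm_num)
  have h := hY.eq
  have e1 : Art.dd (.L 7) (2 ^ 1) = 1 := by decide
  have e2 : (2 ^ 1) ^ Art.NN (.L 7) * Art.num (.L 7) (2 ^ 1) = 163849992929280 := by decide +kernel
  rw [e1, e2, one_mul] at h
  exact h

/-- **The lattice of the prime 127.** -/
theorem lat (hF : Fintype.card F = 2) (hreg : ∃ k, 2 ^ k ∈ Co (ProjectiveSpecialLinearGroup (Fin 7) F)) :
    Lat (ProjectiveSpecialLinearGroup (Fin 7) F) 2 127 127 := by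
  have hfin : Finite (ProjectiveSpecialLinearGroup (Fin 7) F) := Quotient.finite _
  have hone : ∀ c ∈ Co (ProjectiveSpecialLinearGroup (Fin 7) F),
      c ≠ Nat.card (ProjectiveSpecialLinearGroup (Fin 7) F) → 127 ∣ c → c = 127 := by
    rintro c ⟨x, rfl⟩ hc hr
    refine cent hF ?_ hr
    rintro rfl
    apply hc
    show Nat.card ↥(Subgroup.centralizer ({(1 : ProjectiveSpecialLinearGroup (Fin 7) F)} : Set _)) = _
    have : Subgroup.centralizer ({(1 : ProjectiveSpecialLinearGroup (Fin 7) F)} : Set _) = ⊤ := by
      rw [eq_top_iff]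
      intro w _
      rw [Subgroup.mem_centralizer_singleton_iff, mul_one, one_mul]
    rw [this, Subgroup.card_top]
  have hcard := card_seven hF
  have hfac : (Nat.card (ProjectiveSpecialLinearGroup (Fin 7) F)).factorization 127 = 1 := by
    rw [hcard]
    have h1 : (163849992929280 : ℕ) = 127 ^ 1 * 1290157424640 := by norm_num
    rw [h1, Nat.factorization_mul (by norm_num) (by norm_num), Finsupp.add_apply,
      Nat.Prime.factorization_pow (by norm_num), Finsupp.single_eq_same,
      Nat.factorization_eq_zero_of_not_dvd (by norm_num)]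
  have hrS : 127 ∣ Nat.card (ProjectiveSpecialLinearGroup (Fin 7) F) := by rw [hcard]; norm_num
  refine ⟨hrS, ?_, ?_, ?_, by norm_num, fun c hc h1 h2 _ => hone c hc h1 h2, ?_, ?_⟩
  · obtain ⟨k, hk⟩ := hreg
    refine ⟨2 ^ k, hk, fun h => ?_⟩
    have := (Nat.prime_dvd_prime_iff_eq (by norm_num) Nat.prime_two).1
      ((by norm_num : (127 : ℕ).Prime).dvd_of_dvd_pow h)
    norm_num at this
  · have := Fact.mk (by norm_num : (127 : ℕ).Prime)
    obtain ⟨y, hy⟩ := exists_prime_orderOf_dvd_card' 127 hrS
    have h1 : 127 ∣ Nat.card ↥(Subgroup.centralizer ({y} : Set (ProjectiveSpecialLinearGroup (Fin 7) F))) := by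
      have h2 : y ∈ Subgroup.centralizer ({y} : Set (ProjectiveSpecialLinearGroup (Fin 7) F)) :=
        Subgroup.mem_centralizer_singleton_iff.2 rfl
      have h3 := orderOf_dvd_natCard (⟨y, h2⟩ : ↥(Subgroup.centralizer ({y} : Set _)))
      rwa [Subgroup.orderOf_mk, hy] at h3
    have h2 := cent hF (x := y) (by rintro rfl; rw [orderOf_one] at hy; norm_num at hy) h1
    exact ⟨y, h2⟩
  · rw [hfac, pow_one]
  · intro c hc h1 h2
    rw [hone c hc h1 h2]
    intro h
    have h3 : (Nat.card (ProjectiveSpecialLinearGroup (Fin 7) F)).factorization 2 = 21 := by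
      rw [hcard]
      have h1 : (163849992929280 : ℕ) = 2 ^ 21 * 78129765 := by norm_num
      rw [h1, Nat.factorization_mul (by norm_num) (by norm_num), Finsupp.add_apply,
        Nat.Prime.factorization_pow (by norm_num), Finsupp.single_eq_same,
        Nat.factorization_eq_zero_of_not_dvd (by norm_num)]
    rw [h3] at h
    norm_num at h
  · intro c hc h1 h2 h3
    rw [hone c hc h1 h2] at h3
    norm_num at h3

end Cfsg.Agent.H402.CS.Seven
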